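import Groth.Agent.BalLib.LocTriv

/-!
# Local verification of cartesian squares
-/

set_option autoImplicit false

universe u

open CategoryTheory AlgebraicGeometry MonoidalCategory CartesianMonoidalCategory MonObj Limits

namespace Groth.Agent.BalLib

variable {S : Scheme.{u}}

theorem HasLocSec.of_factor {U U' Y : Over S} {j : U ⟶ Y} {j' : U' ⟶ Y} (hj' : HasLocSec j') (c : U' ⟶ U)
    (hc : c ≫ j = j') : HasLocSec j := by
  obtain ⟨R, hR, hsec⟩ := hj'
  refine ⟨R, hR, fun T a ha => ?_⟩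
  obtain ⟨s, hs⟩ := hsec a ha
  exact ⟨s ≫ c.left, by rw [Category.assoc, ← Over.comp_left, hc, hs]⟩

theorem HasLocSec.comp {V U Y : Over S} {k : V ⟶ U} {j : U ⟶ Y} (hk : HasLocSec k) (hj : HasLocSec j) :
    HasLocSec (k ≫ j) := by
  obtain ⟨R, hR, hsec⟩ := hj
  obtain ⟨R', hR', hsec'⟩ := hk
  choose s hs using hsec
  let B : ∀ ⦃T : Scheme.{u}⦄ ⦃a : T ⟶ Y.left⦄, R a → Sieve T := fun T a ha => R'.pullback (s a ha)
  refine ⟨Sieve.bind R.arrows B, Scheme.fppfTopology.bind_covering hR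
    fun _ _ ha => Scheme.fppfTopology.pullback_stable _ hR', ?_⟩
  rintro T a ⟨W, g, f, hf, hg, rfl⟩
  obtain ⟨t, ht⟩ := hsec' _ hg
  exact ⟨t, by rw [Over.comp_left, ← Category.assoc, ht, Category.assoc, hs]⟩

/-- A square is cartesian if its comparison map is injective on points and locally surjective. -/
theorem isPullback_of_locally {P A B C : Over S} {a : P ⟶ A} {b : P ⟶ B} {f : A ⟶ C} {g : B ⟶ C}
    (w : a ≫ f = b ≫ g) (hinj : ∀ (T : Over S) (p p' : T ⟶ P), p ≫ a = p' ≫ a → p ≫ b = p' ≫ b → p = p')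
    {U : Over S} {v : U ⟶ pullback f g} (hv : HasLocSec v) (u : U ⟶ P)
    (h₁ : u ≫ a = v ≫ pullback.fst f g) (h₂ : u ≫ b = v ≫ pullback.snd f g) : IsPullback a b f g := by
  obtain ⟨χ, hχ, -⟩ := hv.existsUnique_desc u fun T x y hxy => hinj T _ _
    (by rw [Category.assoc, Category.assoc, h₁, ← Category.assoc, hxy, Category.assoc])
    (by rw [Category.assoc, Category.assoc, h₂, ← Category.assoc, hxy, Category.assoc])
  have e₁ : χ ≫ a = pullback.fst f g := hv.hom_ext (by rw [← Category.assoc, hχ, h₁])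
  have e₂ : χ ≫ b = pullback.snd f g := hv.hom_ext (by rw [← Category.assoc, hχ, h₂])
  refine isPullback_of_points w fun T x y hxy => ⟨pullback.lift x y hxy ≫ χ, ⟨?_, ?_⟩, fun p hp => hinj T _ _ ?_ ?_⟩
  · rw [Category.assoc, e₁, pullback.lift_fst]
  · rw [Category.assoc, e₂, pullback.lift_snd]
  · rw [hp.1, Category.assoc, e₁, pullback.lift_fst]
  · rw [hp.2, Category.assoc, e₂, pullback.lift_snd]

/-- An equivariant map of torsors over a map of bases is cartesian. -/
theorem isPullback_of_torsors {G P P' T T' : Over S} [GrpObj G] {aP : AlgGrp.Action G P} {aP' : AlgGrp.Action G P'}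
    {π : P ⟶ T} {π' : P' ⟶ T'} (cart : IsPullback aP.act (snd G P) π π)
    (cart' : IsPullback aP'.act (snd G P') π' π') (hπ : HasLocSec π) {t : P ⟶ P'} {f : T ⟶ T'}
    (w : t ≫ π' = π ≫ f) (heq : aP.act ≫ t = (G ◁ t) ≫ aP'.act) : IsPullback t π π' f := by
  have heq' : ∀ (W : Over S) (g : W ⟶ G) (x : W ⟶ P), (lift g x ≫ aP.act) ≫ t = lift g (x ≫ t) ≫ aP'.act := by
    intro W g x
    rw [Category.assoc, heq, lift_whiskerLeft_assoc]
  let V := pullback π (pullback.snd π' f)
  let v : V ⟶ pullback π' f := pullback.snd π (pullback.snd π' f)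
  let x₀ : V ⟶ P := pullback.fst π (pullback.snd π' f)
  have hh : (v ≫ pullback.fst π' f) ≫ π' = (x₀ ≫ t) ≫ π' := by
    simp only [v, x₀, Category.assoc, w, pullback.condition, pullback.condition_assoc]
  let c := cart'.lift (v ≫ pullback.fst π' f) (x₀ ≫ t) hh
  have hc : c = lift (c ≫ fst G P') (x₀ ≫ t) := by
    conv_lhs => rw [lift_fst_snd_self c, show c ≫ snd G P' = x₀ ≫ t from cart'.lift_snd _ _ hh]
  refine isPullback_of_locally w (fun W p p' h₁ h₂ => ?_) (hπ.of_isPullback (IsPullback.of_hasPullback π (pullback.snd π' f)))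
    (lift (c ≫ fst G P') x₀ ≫ aP.act) ?_ ?_
  · let d := cart.lift p p' h₂
    have hd : d = lift (d ≫ fst G P) p' := by
      conv_lhs => rw [lift_fst_snd_self d, show d ≫ snd G P = p' from cart.lift_snd _ _ h₂]
    have hdp : lift (d ≫ fst G P) p' ≫ aP.act = p := hd ▸ cart.lift_fst _ _ h₂
    rw [← hdp, heq'] at h₁
    have h1 : d ≫ fst G P = 1 := by
      have e := cart'.hom_ext (k := lift (d ≫ fst G P) (p' ≫ t)) (l := lift (1 : W ⟶ G) (p' ≫ t))
        (by rw [h₁, AlgGrp.Action.lift_one_act]) (by simp)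
      simpa using congrArg (· ≫ fst G P') e
    rw [← hdp, h1, AlgGrp.Action.lift_one_act]
  · rw [heq', ← hc]
    exact cart'.lift_fst _ _ hh
  · rw [Category.assoc, cart.w, lift_snd_assoc]
    simp only [x₀, pullback.condition, v]

end Groth.Agent.BalLib
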