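import Groth.Agent.BalLib.Assoc
import Groth.Agent.BalLib.Locally

/-!
# Change of the structure group of a torsor
-/

set_option autoImplicit false
set_option backward.isDefEq.respectTransparency false

universe u

open CategoryTheory AlgebraicGeometry MonoidalCategory CartesianMonoidalCategory MonObj GrpObj Limits

namespace Groth.Agent.BalLib

variable {S : Scheme.{u}} {G K P T : Over S} [GrpObj G] [GrpObj K] (f : G ⟶ K) [IsMonHom f]
  {aP : AlgGrp.Action G P} {π : P ⟶ T} (cart : IsPullback aP.act (snd G P) π π)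

include cart in
/-- The torsor under `K` obtained from a torsor under `G`. -/
theorem exists_push [Surjective π.left] [Flat π.left] [QuasiCompact π.left] [IsAffineHom K.hom] (hπ : HasLocSec π) :
    ∃ (Q : Over S) (q : P ⊗ K ⟶ Q) (r : Q ⟶ T) (aQ : AlgGrp.Action K Q), q ≫ r = fst P K ≫ π ∧
      IsPullback q (fst P K) r π ∧ IsPullback aQ.act (snd K Q) r r ∧
      (∀ (W : Over S) (h : W ⟶ G) (p : W ⟶ P) (g : W ⟶ K),
        lift (lift h p ≫ aP.act) (g * (h ≫ f)⁻¹) ≫ q = lift p g ≫ q) ∧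
      (∀ (W : Over S) (p p' : W ⟶ P) (g g' : W ⟶ K), lift p g ≫ q = lift p' g' ≫ q →
        ∃ h : W ⟶ G, p = lift h p' ≫ aP.act ∧ g = g' * (h ≫ f)⁻¹) := by
  obtain ⟨Q, q, r, hw, sq, hcq⟩ := exists_assoc cart ((AlgGrp.Action.invRight K).restrict f)
  have hinv : ∀ (W : Over S) (h : W ⟶ G) (p : W ⟶ P) (g : W ⟶ K),
      lift (lift h p ≫ aP.act) (g * (h ≫ f)⁻¹) ≫ q = lift p g ≫ q := by
    intro W h p g
    have e1 := congrArg (lift h (lift p g) ≫ ·) hcq.w
    simpa only [AlgGrp.Action.lift_prod_act_assoc, AlgGrp.Action.lift_restrict_act, AlgGrp.Action.lift_invRight_act,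
      lift_snd_assoc] using e1
  have hfib : ∀ (W : Over S) (p p' : W ⟶ P) (g g' : W ⟶ K), lift p g ≫ q = lift p' g' ≫ q →
      ∃ h : W ⟶ G, p = lift h p' ≫ aP.act ∧ g = g' * (h ≫ f)⁻¹ := by
    intro W p p' g g' h
    let c := hcq.lift (lift p g) (lift p' g') h
    have hc : c = lift (c ≫ fst G (P ⊗ K)) (lift p' g') := by
      conv_lhs => rw [lift_fst_snd_self c, show c ≫ snd G (P ⊗ K) = lift p' g' from hcq.lift_snd _ _ h]
    have h1 := hcq.lift_fst _ _ h
    rw [show hcq.lift (lift p g) (lift p' g') h = c from rfl, hc, AlgGrp.Action.lift_prod_act,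
      AlgGrp.Action.lift_restrict_act, AlgGrp.Action.lift_invRight_act] at h1
    exact ⟨_, by simpa using (congrArg (· ≫ fst P K) h1).symm, by simpa using (congrArg (· ≫ snd P K) h1).symm⟩
  have hqs : HasLocSec q := hπ.of_isPullback sq.flip
  -- the action of `K` on the bundle
  obtain ⟨act, hact, -⟩ := (hqs.whiskerLeft K).existsUnique_desc
    (lift (snd K (P ⊗ K) ≫ fst P K) (fst K (P ⊗ K) * (snd K (P ⊗ K) ≫ snd P K)) ≫ q) fun W a b hab => by
      obtain ⟨k, u, rfl⟩ : ∃ (k : W ⟶ K) (u : W ⟶ P ⊗ K), a = lift k u := ⟨_, _, lift_fst_snd_self a⟩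
      obtain ⟨k', u', rfl⟩ : ∃ (k' : W ⟶ K) (u' : W ⟶ P ⊗ K), b = lift k' u' := ⟨_, _, lift_fst_snd_self b⟩
      obtain ⟨p, g, rfl⟩ : ∃ (p : W ⟶ P) (g : W ⟶ K), u = lift p g := ⟨_, _, lift_fst_snd_self u⟩
      obtain ⟨p', g', rfl⟩ : ∃ (p' : W ⟶ P) (g' : W ⟶ K), u' = lift p' g' := ⟨_, _, lift_fst_snd_self u'⟩
      rw [lift_whiskerLeft, lift_whiskerLeft] at hab
      have hk : k = k' := by simpa using congrArg (· ≫ fst K Q) hab
      obtain ⟨h, rfl, rfl⟩ := hfib W p p' g g' (by simpa using congrArg (· ≫ snd K Q) hab)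
      subst hk
      simp only [comp_lift_assoc, comp_mul, lift_fst, lift_snd, lift_fst_assoc, lift_snd_assoc]
      rw [← _root_.mul_assoc, hinv]
  have hact' : ∀ (W : Over S) (k : W ⟶ K) (p : W ⟶ P) (g : W ⟶ K),
      lift k (lift p g ≫ q) ≫ act = lift p (k * g) ≫ q := by
    intro W k p g
    rw [← lift_whiskerLeft_assoc, hact]
    simp only [comp_lift_assoc, comp_mul, lift_fst, lift_snd, lift_fst_assoc, lift_snd_assoc]
  let aQ : AlgGrp.Action K Q :=
    { act := act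
      one_act := by
        refine (hqs.whiskerLeft (𝟙_ (Over S))).hom_ext (AlgGrp.Action.hom_ext_lift₂ fun W v u => ?_)
        obtain ⟨p, g, rfl⟩ : ∃ (p : W ⟶ P) (g : W ⟶ K), u = lift p g := ⟨_, _, lift_fst_snd_self u⟩
        rw [lift_whiskerLeft_assoc, lift_whiskerRight_assoc, hact', lift_whiskerLeft_assoc, leftUnitor_hom, lift_snd,
          show v ≫ η[K] = 1 by rw [Hom.one_def]; congr 1; exact toUnit_unique _ _, _root_.one_mul]
      mul_act := by
        refine (hqs.whiskerLeft (K ⊗ K)).hom_ext (AlgGrp.Action.hom_ext_lift₂ fun W v u => ?_)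
        obtain ⟨p, g, rfl⟩ : ∃ (p : W ⟶ P) (g : W ⟶ K), u = lift p g := ⟨_, _, lift_fst_snd_self u⟩
        obtain ⟨k, k', rfl⟩ : ∃ (k k' : W ⟶ K), v = lift k k' := ⟨_, _, lift_fst_snd_self v⟩
        rw [lift_whiskerLeft_assoc, lift_whiskerRight_assoc, lift_whiskerLeft_assoc, lift_lift_associator_hom_assoc,
          lift_whiskerLeft_assoc, ← Hom.mul_def, hact', hact', hact', _root_.mul_assoc] }
  -- the torsor structure
  have hrw : ∀ (W : Over S) (p : W ⟶ P) (g : W ⟶ K), (lift p g ≫ q) ≫ r = p ≫ π := by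
    intro W p g
    rw [Category.assoc, hw, lift_fst_assoc]
  have hwr : aQ.act ≫ r = snd K Q ≫ r := by
    refine (hqs.whiskerLeft K).hom_ext (AlgGrp.Action.hom_ext_lift₂ fun W k u => ?_)
    obtain ⟨p, g, rfl⟩ : ∃ (p : W ⟶ P) (g : W ⟶ K), u = lift p g := ⟨_, _, lift_fst_snd_self u⟩
    rw [lift_whiskerLeft_assoc, lift_whiskerLeft_assoc, ← Category.assoc]
    show (lift k (lift p g ≫ q) ≫ act) ≫ r = _
    rw [hact', hrw, lift_snd_assoc, hrw]
  have hfree : ∀ (W : Over S) (k k' : W ⟶ K) (y : W ⟶ Q), lift k y ≫ act = lift k' y ≫ act → k = k' := by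
    intro W k k' y h
    refine (hqs.of_isPullback (IsPullback.of_hasPullback q y)).hom_ext ?_
    let u := pullback.fst q y
    let d := pullback.snd q y
    have hd : d ≫ y = lift (u ≫ fst P K) (u ≫ snd P K) ≫ q := by
      rw [← lift_fst_snd_self u]; exact pullback.condition.symm
    have e1 := congrArg (d ≫ ·) h
    simp only [comp_lift_assoc, hd, hact'] at e1
    obtain ⟨m, hm1, hm2⟩ := hfib _ _ _ _ _ e1
    have hm : m = 1 := (act_left_inj cart (hm1.symm.trans (aP.lift_one_act _).symm))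
    rw [hm, MonObj.one_comp, inv_one, _root_.mul_one] at hm2
    exact mul_right_cancel hm2
  have hcartQ : IsPullback aQ.act (snd K Q) r r := by
    let d₁ : pullback q (pullback.fst r r) ⟶ _ := pullback.snd _ _
    let d₂ : pullback q (d₁ ≫ pullback.snd r r) ⟶ _ := pullback.snd _ _
    have hv : HasLocSec (d₂ ≫ d₁) :=
      (hqs.of_isPullback (IsPullback.of_hasPullback q (d₁ ≫ pullback.snd r r))).comp
        (hqs.of_isPullback (IsPullback.of_hasPullback q (pullback.fst r r)))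
    let u₁ : pullback q (d₁ ≫ pullback.snd r r) ⟶ P ⊗ K := d₂ ≫ pullback.fst _ _
    let u₂ : pullback q (d₁ ≫ pullback.snd r r) ⟶ P ⊗ K := pullback.fst _ _
    have hu₁ : (d₂ ≫ d₁) ≫ pullback.fst r r = lift (u₁ ≫ fst P K) (u₁ ≫ snd P K) ≫ q := by
      rw [← lift_fst_snd_self u₁, Category.assoc, Category.assoc]
      exact congrArg (d₂ ≫ ·) pullback.condition.symm
    have hu₂ : (d₂ ≫ d₁) ≫ pullback.snd r r = lift (u₂ ≫ fst P K) (u₂ ≫ snd P K) ≫ q := by
      rw [← lift_fst_snd_self u₂, Category.assoc]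
      exact pullback.condition.symm
    have hpp : (u₁ ≫ fst P K) ≫ π = (u₂ ≫ fst P K) ≫ π := by
      rw [← hrw _ _ (u₁ ≫ snd P K), ← hu₁, ← hrw _ _ (u₂ ≫ snd P K), ← hu₂]
      simp only [Category.assoc, pullback.condition]
    let m := div cart _ _ hpp
    refine isPullback_of_locally hwr (fun W x x' h₁ h₂ => ?_) hv
      (lift ((u₁ ≫ snd P K) * (m ≫ f) * (u₂ ≫ snd P K)⁻¹) ((d₂ ≫ d₁) ≫ pullback.snd r r)) ?_ (lift_snd _ _)
    · obtain ⟨k, y, rfl⟩ : ∃ (k : W ⟶ K) (y : W ⟶ Q), x = lift k y := ⟨_, _, lift_fst_snd_self x⟩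
      obtain ⟨k', y', rfl⟩ : ∃ (k' : W ⟶ K) (y' : W ⟶ Q), x' = lift k' y' := ⟨_, _, lift_fst_snd_self x'⟩
      simp only [lift_snd] at h₂
      subst h₂
      rw [hfree W k k' y h₁]
    · show lift _ _ ≫ act = _
      rw [hu₂, hact', inv_mul_cancel_right, hu₁, ← hinv _ m (u₂ ≫ fst P K), mul_inv_cancel_right, div_spec]
  exact ⟨Q, q, r, aQ, hw, sq, hcartQ, hinv, hfib⟩

end Groth.Agent.BalLib
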