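import Groth.Agent.BalLib.Points
import Groth.Agent.SchTorsor.Props
import Groth.Agent.S1133
import Groth.Prelude.Def_AlgSt5

/-!
# Associated bundles of torsors with affine fibre
-/

set_option autoImplicit false
set_option backward.isDefEq.respectTransparency false

universe u

open CategoryTheory AlgebraicGeometry MonoidalCategory CartesianMonoidalCategory MonObj GrpObj Limits

namespace Groth.Agent.BalLib

variable {S : Scheme.{u}} {G P T : Over S} [GrpObj G] {aP : AlgGrp.Action G P} {π : P ⟶ T}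
  (cart : IsPullback aP.act (snd G P) π π)

/-- The element of the group moving one point to another in the same fibre. -/
noncomputable def div {W : Over S} (x₁ x₀ : W ⟶ P) (h : x₁ ≫ π = x₀ ≫ π) : W ⟶ G :=
  cart.lift x₁ x₀ h ≫ fst G P

theorem div_spec {W : Over S} (x₁ x₀ : W ⟶ P) (h : x₁ ≫ π = x₀ ≫ π) :
    lift (div cart x₁ x₀ h) x₀ ≫ aP.act = x₁ := by
  have h1 : cart.lift x₁ x₀ h ≫ snd G P = x₀ := cart.lift_snd _ _ h
  rw [show lift (div cart x₁ x₀ h) x₀ = cart.lift x₁ x₀ h by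
    conv_rhs => rw [lift_fst_snd_self (cart.lift x₁ x₀ h), h1]
    rfl]
  exact cart.lift_fst _ _ h

include cart in
theorem act_left_inj {W : Over S} {g g' : W ⟶ G} {x : W ⟶ P} (h : lift g x ≫ aP.act = lift g' x ≫ aP.act) :
    g = g' := by
  simpa using congrArg (· ≫ fst G P) (cart.hom_ext (k := lift g x) (l := lift g' x) h (by simp))

theorem comp_div {W W' : Over S} (k : W' ⟶ W) (x₁ x₀ : W ⟶ P) (h : x₁ ≫ π = x₀ ≫ π) :
    k ≫ div cart x₁ x₀ h = div cart (k ≫ x₁) (k ≫ x₀) (by simp [h]) := by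
  refine act_left_inj cart (x := k ≫ x₀) ?_
  rw [div_spec, ← comp_lift_assoc, div_spec]

theorem div_eq {W : Over S} {x₁ x₀ : W ⟶ P} (h : x₁ ≫ π = x₀ ≫ π) {g : W ⟶ G} (hg : lift g x₀ ≫ aP.act = x₁) :
    div cart x₁ x₀ h = g :=
  act_left_inj cart ((div_spec cart x₁ x₀ h).trans hg.symm)

include cart in
theorem act_proj {W : Over S} (g : W ⟶ G) (x : W ⟶ P) : (lift g x ≫ aP.act) ≫ π = x ≫ π := by
  rw [Category.assoc, cart.w, lift_snd_assoc]

include cart in
/-- Properties local for the fpqc topology pass from a group to its torsors. -/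
theorem torsor_property (M : MorphismProperty Scheme.{u}) [M.IsStableUnderBaseChange] [IsZariskiLocalAtTarget M]
    [M.DescendsAlong (@Surjective ⊓ @Flat ⊓ @QuasiCompact)]
    (hloc : NonAbH1.IsLocallyTrivialFor Scheme.fpqcPrecoverage (Over.mk π.left : Over T.left))
    (hG : M G.hom) : M π.left := by
  refine IsZariskiLocalAtTarget.of_openCover T.left.affineCover fun i => ?_
  obtain ⟨Z, p, hp₁, hp₂, hp₃, s, hs⟩ := SchTorsor.exists_single hloc (T.left.affineCover.f i)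
  show M (pullback.snd π.left (T.left.affineCover.f i))
  refine MorphismProperty.of_pullback_snd_of_descendsAlong (Q := @Surjective ⊓ @Flat ⊓ @QuasiCompact)
    (g := p) ⟨⟨hp₁, hp₂⟩, hp₃⟩ ?_
  let W : Over S := Over.mk ((p ≫ T.left.affineCover.f i) ≫ T.hom)
  let t : W ⟶ T := Over.homMk (p ≫ T.left.affineCover.f i) rfl
  have hs' : s ≫ π.left = p ≫ T.left.affineCover.f i := hs
  let σ : W ⟶ P := Over.homMk s (by
    show s ≫ P.hom = (p ≫ T.left.affineCover.f i) ≫ T.hom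
    rw [← Over.w π, ← Category.assoc, hs'])
  have hσ : σ ≫ π = t := Over.OverMorphism.ext hs'
  have sq : IsPullback ((G ◁ σ) ≫ aP.act) (snd G W) π t := by
    refine isPullback_of_points ?_ fun V x y hxy => ?_
    · rw [Category.assoc, cart.w, whiskerLeft_snd_assoc, hσ]
    · have h' : x ≫ π = (y ≫ σ) ≫ π := by rw [hxy, Category.assoc, hσ]
      refine ⟨lift (div cart x (y ≫ σ) h') y, ⟨?_, lift_snd _ _⟩, ?_⟩
      · rw [lift_whiskerLeft_assoc, div_spec]
      · rintro q ⟨hq1, hq2⟩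
        obtain ⟨g, rfl⟩ : ∃ g : V ⟶ G, q = lift g y :=
          ⟨q ≫ fst G W, by rw [← hq2]; exact lift_fst_snd_self q⟩
        rw [lift_whiskerLeft_assoc] at hq1
        rw [div_eq cart h' hq1]
  have sq' : IsPullback ((G ◁ σ) ≫ aP.act).left (snd G W).left π.left t.left := sq.map (Over.forget S)
  have hGt : M (snd G W).left := MorphismProperty.pullback_snd G.hom W.hom hG
  have hPt : M (pullback.snd π.left t.left) := by
    rwa [← sq'.isoPullback_hom_snd, M.cancel_left_of_respectsIso] at hGt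
  rw [← pullbackLeftPullbackSndIso_hom_snd π.left (T.left.affineCover.f i) p, M.cancel_left_of_respectsIso]
  exact hPt

variable {F : Over S} (b : AlgGrp.Action G F)

/-- The transport of a point of `F` along two points of the torsor in one fibre. -/
noncomputable def move {W : Over S} (x₁ x₀ : W ⟶ P) (h : x₁ ≫ π = x₀ ≫ π) (f : W ⟶ F) : W ⟶ F :=
  lift (div cart x₁ x₀ h) f ≫ b.act

theorem move_self {W : Over S} (x : W ⟶ P) (f : W ⟶ F) : move cart b x x rfl f = f := by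
  rw [move, div_eq cart rfl (aP.lift_one_act x), AlgGrp.Action.lift_one_act]

theorem move_move {W : Over S} (x₀ x₁ x₂ : W ⟶ P) (h₁ : x₁ ≫ π = x₀ ≫ π) (h₂ : x₂ ≫ π = x₁ ≫ π) (f : W ⟶ F) :
    move cart b x₂ x₁ h₂ (move cart b x₁ x₀ h₁ f) = move cart b x₂ x₀ (h₂.trans h₁) f := by
  simp only [move]
  rw [← AlgGrp.Action.lift_mul_act, div_eq cart (h₂.trans h₁) (g := div cart x₂ x₁ h₂ * div cart x₁ x₀ h₁)]
  rw [AlgGrp.Action.lift_mul_act, div_spec, div_spec]

theorem comp_move {W W' : Over S} (k : W' ⟶ W) (x₁ x₀ : W ⟶ P) (h : x₁ ≫ π = x₀ ≫ π) (f : W ⟶ F) :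
    k ≫ move cart b x₁ x₀ h f = move cart b (k ≫ x₁) (k ≫ x₀) (by simp [h]) (k ≫ f) := by
  simp only [move]
  rw [comp_lift_assoc, comp_div]

/-- A point over a point of the torsor, seen over the base. -/
noncomputable abbrev ovr {V : Scheme.{u}} (x : V ⟶ P.left) : Over S := Over.mk (x ≫ P.hom)

omit [GrpObj G] in
theorem w_of_proj {V : Scheme.{u}} {x₀ x₁ : V ⟶ P.left} (h : x₀ ≫ π.left = x₁ ≫ π.left) :
    x₁ ≫ P.hom = x₀ ≫ P.hom := by
  rw [← Over.w π, reassoc_of% h]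

/-- The gluing map. -/
noncomputable def gluing {V : Scheme.{u}} (x₀ x₁ : V ⟶ P.left) (h : x₀ ≫ π.left = x₁ ≫ π.left)
    (v : Desc.Lifts (Over.mk (fst P F).left : Over P.left) x₀) :
    Desc.Lifts (Over.mk (fst P F).left : Over P.left) x₁ :=
  let X₀ : ovr x₀ ⟶ P := Over.homMk x₀ rfl
  let X₁ : ovr x₀ ⟶ P := Over.homMk x₁ (w_of_proj h)
  let f : ovr x₀ ⟶ P ⊗ F := Over.homMk v.1 (by
    show v.1 ≫ (P ⊗ F).hom = x₀ ≫ P.hom
    rw [← Over.w (fst P F), ← Category.assoc]
    exact congrArg (· ≫ P.hom) v.2)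
  ⟨(lift X₁ (move cart b X₁ X₀ (Over.OverMorphism.ext h.symm) (f ≫ snd P F))).left,
    congrArg CommaMorphism.left (lift_fst X₁ _)⟩

theorem gluing_spec {W : Over S} (X₀ X₁ : W ⟶ P) (f : W ⟶ F) (h : X₁ ≫ π = X₀ ≫ π)
    {x₀ x₁ : W.left ⟶ P.left} (e₀ : x₀ = X₀.left) (e₁ : x₁ = X₁.left) (h' : x₀ ≫ π.left = x₁ ≫ π.left)
    (v : Desc.Lifts (Over.mk (fst P F).left : Over P.left) x₀) (hv : v.1 = (lift X₀ f).left) :
    (gluing cart b x₀ x₁ h' v).1 = (lift X₁ (move cart b X₁ X₀ h f)).left := by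
  subst e₀ e₁
  let k : W ⟶ ovr X₀.left := Over.homMk (𝟙 _) (by simp)
  unfold gluing
  simp only
  refine (Category.id_comp _).symm.trans ?_
  show k.left ≫ _ = _
  rw [← Over.comp_left, comp_lift, comp_move]
  refine congrArg CommaMorphism.left ?_
  suffices key : ∀ (A B : W ⟶ P) (C : W ⟶ F) (hh : A ≫ π = B ≫ π), A = X₁ → B = X₀ → C = f →
      lift A (move cart b A B hh C) = lift X₁ (move cart b X₁ X₀ h f) by
    refine key _ _ _ _ (Over.OverMorphism.ext (Category.id_comp _)) (Over.OverMorphism.ext (Category.id_comp _)) ?_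
    rw [← Category.assoc,
      show k ≫ (Over.homMk v.1 _ : ovr X₀.left ⟶ P ⊗ F) = lift X₀ f from
        Over.OverMorphism.ext ((Category.id_comp _).trans hv), lift_snd]
  rintro A B C hh rfl rfl rfl
  rfl

/-- The descent datum. -/
noncomputable def datum : Desc.SchDD π.left where
  obj := Over.mk (fst P F).left
  φ V x₀ x₁ h :=
    { toFun := gluing cart b x₀ x₁ h
      invFun := gluing cart b x₁ x₀ h.symm
      left_inv := fun v => gluing_gluing h h.symm v
      right_inv := fun v => gluing_gluing h.symm h v }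
  φ_natural V V' g x₀ x₁ h h' v v' hv' := by
    let W' : Over S := Over.mk ((g ≫ x₀) ≫ P.hom)
    let k : W' ⟶ ovr x₀ := Over.homMk g (Category.assoc _ _ _).symm
    let X₀ : ovr x₀ ⟶ P := Over.homMk x₀ rfl
    let X₁ : ovr x₀ ⟶ P := Over.homMk x₁ (w_of_proj h)
    let f : ovr x₀ ⟶ P ⊗ F := Over.homMk v.1 (by
      show v.1 ≫ (P ⊗ F).hom = x₀ ≫ P.hom
      rw [← Over.w (fst P F), ← Category.assoc]
      exact congrArg (· ≫ P.hom) v.2)
    have hf : f = lift X₀ (f ≫ snd P F) := by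
      conv_lhs => rw [lift_fst_snd_self f, show f ≫ fst P F = X₀ from Over.OverMorphism.ext v.2]
    have hπ : X₁ ≫ π = X₀ ≫ π := Over.OverMorphism.ext h.symm
    show (gluing cart b (g ≫ x₀) (g ≫ x₁) h' v').1 = g ≫ (gluing cart b x₀ x₁ h v).1
    rw [gluing_spec cart b (W := W') (x₀ := g ≫ x₀) (x₁ := g ≫ x₁) (k ≫ X₀) (k ≫ X₁) (k ≫ f ≫ snd P F) (by simp [hπ]) rfl rfl h' v'
      (by rw [hv', ← comp_lift, ← hf]; rfl), ← comp_move cart b k X₁ X₀ hπ, ← comp_lift]
    rfl
  φ_self V x v := by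
    apply Subtype.ext
    let X₀ : ovr x ⟶ P := Over.homMk x rfl
    let f : ovr x ⟶ P ⊗ F := Over.homMk v.1 (by
      show v.1 ≫ (P ⊗ F).hom = x ≫ P.hom
      rw [← Over.w (fst P F), ← Category.assoc]
      exact congrArg (· ≫ P.hom) v.2)
    have hf : f = lift X₀ (f ≫ snd P F) := by
      conv_lhs => rw [lift_fst_snd_self f, show f ≫ fst P F = X₀ from Over.OverMorphism.ext v.2]
    show (gluing cart b x x rfl v).1 = v.1
    rw [gluing_spec cart b (x₀ := x) (x₁ := x) X₀ X₀ (f ≫ snd P F) rfl rfl rfl rfl v (congrArg CommaMorphism.left hf), move_self, ← hf]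
    rfl
  φ_comp V x₀ x₁ x₂ h₀₁ h₁₂ v := gluing_trans h₀₁ h₁₂ v
where
  gluing_trans {V : Scheme.{u}} {x₀ x₁ x₂ : V ⟶ P.left} (h₀₁ : x₀ ≫ π.left = x₁ ≫ π.left)
      (h₁₂ : x₁ ≫ π.left = x₂ ≫ π.left) (v : Desc.Lifts (Over.mk (fst P F).left : Over P.left) x₀) :
      gluing cart b x₁ x₂ h₁₂ (gluing cart b x₀ x₁ h₀₁ v) = gluing cart b x₀ x₂ (h₀₁.trans h₁₂) v := by
    apply Subtype.ext
    let X₀ : ovr x₀ ⟶ P := Over.homMk x₀ rfl
    let X₁ : ovr x₀ ⟶ P := Over.homMk x₁ (w_of_proj h₀₁)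
    let X₂ : ovr x₀ ⟶ P := Over.homMk x₂ (w_of_proj (h₀₁.trans h₁₂))
    let f : ovr x₀ ⟶ P ⊗ F := Over.homMk v.1 (by
      show v.1 ≫ (P ⊗ F).hom = x₀ ≫ P.hom
      rw [← Over.w (fst P F), ← Category.assoc]
      exact congrArg (· ≫ P.hom) v.2)
    have hf : f = lift X₀ (f ≫ snd P F) := by
      conv_lhs => rw [lift_fst_snd_self f, show f ≫ fst P F = X₀ from Over.OverMorphism.ext v.2]
    have e01 : X₁ ≫ π = X₀ ≫ π := Over.OverMorphism.ext h₀₁.symm
    have e12 : X₂ ≫ π = X₁ ≫ π := Over.OverMorphism.ext h₁₂.symm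
    have hv0 := congrArg CommaMorphism.left hf
    rw [gluing_spec cart b (W := ovr x₀) (x₀ := x₁) (x₁ := x₂) X₁ X₂ (move cart b X₁ X₀ e01 (f ≫ snd P F)) e12 rfl rfl h₁₂ _
      (gluing_spec cart b (x₀ := x₀) (x₁ := x₁) X₀ X₁ _ e01 rfl rfl h₀₁ v hv0), move_move,
      gluing_spec cart b (x₀ := x₀) (x₁ := x₂) X₀ X₂ (f ≫ snd P F) (e12.trans e01) rfl rfl (h₀₁.trans h₁₂) v hv0]
  gluing_gluing {V : Scheme.{u}} {x₀ x₁ : V ⟶ P.left} (h : x₀ ≫ π.left = x₁ ≫ π.left)
      (h' : x₁ ≫ π.left = x₀ ≫ π.left) (v : Desc.Lifts (Over.mk (fst P F).left : Over P.left) x₀) :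
      gluing cart b x₁ x₀ h' (gluing cart b x₀ x₁ h v) = v := by
    rw [gluing_trans h h' v]
    apply Subtype.ext
    let X₀ : ovr x₀ ⟶ P := Over.homMk x₀ rfl
    let f : ovr x₀ ⟶ P ⊗ F := Over.homMk v.1 (by
      show v.1 ≫ (P ⊗ F).hom = x₀ ≫ P.hom
      rw [← Over.w (fst P F), ← Category.assoc]
      exact congrArg (· ≫ P.hom) v.2)
    have hf : f = lift X₀ (f ≫ snd P F) := by
      conv_lhs => rw [lift_fst_snd_self f, show f ≫ fst P F = X₀ from Over.OverMorphism.ext v.2]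
    rw [gluing_spec cart b (x₀ := x₀) (x₁ := x₀) X₀ X₀ (f ≫ snd P F) rfl rfl rfl _ v (congrArg CommaMorphism.left hf), move_self, ← hf]
    rfl

include cart in
/-- The associated bundle of a torsor, given effectivity of the descent datum. -/
theorem exists_assoc_of_effective (heff : ∃ U : Over T.left, Nonempty ((Desc.toDD π.left).obj U ≅ datum cart b)) :
    ∃ (Q : Over S) (q : P ⊗ F ⟶ Q) (r : Q ⟶ T), q ≫ r = fst P F ≫ π ∧ IsPullback q (fst P F) r π ∧
      IsPullback (aP.prod b).act (snd G (P ⊗ F)) q q := by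
  obtain ⟨U, ⟨e⟩⟩ := heff
  let Q : Over S := Over.mk (U.hom ≫ T.hom)
  let r : Q ⟶ T := Over.homMk U.hom rfl
  let emb : (P ⊗ F).left ⟶ pullback π.left U.hom := e.inv.hom.left
  have hemb : emb ≫ pullback.fst π.left U.hom = (fst P F).left := Over.w e.inv.hom
  have : IsIso e.inv.hom := ⟨e.hom.hom, by rw [← Desc.SchDD.comp_hom, e.inv_hom_id]; rfl,
    by rw [← Desc.SchDD.comp_hom, e.hom_inv_id]; rfl⟩
  have : IsIso emb := inferInstanceAs (IsIso ((Over.forget _).map e.inv.hom))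
  let q : P ⊗ F ⟶ Q := Over.homMk (emb ≫ pullback.snd π.left U.hom) (by
    show (emb ≫ pullback.snd π.left U.hom) ≫ U.hom ≫ T.hom = (P ⊗ F).hom
    rw [Category.assoc, ← pullback.condition_assoc, reassoc_of% hemb, Over.w π, Over.w (fst P F)])
  have hw : q ≫ r = fst P F ≫ π := Over.OverMorphism.ext (by
    show (emb ≫ pullback.snd π.left U.hom) ≫ U.hom = (fst P F).left ≫ π.left
    rw [Category.assoc, ← pullback.condition, reassoc_of% hemb])
  have sq : IsPullback q (fst P F) r π := by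
    refine IsPullback.of_map (Over.forget S) hw ?_
    refine IsPullback.of_iso (IsPullback.of_hasPullback π.left U.hom).flip (asIso emb).symm (Iso.refl _) (Iso.refl _)
      (Iso.refl _) ?_ ?_ (by simp [r]) (by simp)
    · simp [q, emb]
    · simp [← hemb]
  have hinv : ∀ (W : Over S) (g : W ⟶ G) (x : W ⟶ P) (f : W ⟶ F),
      lift (lift g x ≫ aP.act) (lift g f ≫ b.act) ≫ q = lift x f ≫ q := by
    intro W g x f
    have hπ : (lift g x ≫ aP.act) ≫ π = x ≫ π := act_proj cart g x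
    let v : Desc.Lifts (datum cart b).obj x.left := ⟨(lift x f).left, congrArg CommaMorphism.left (lift_fst x f)⟩
    let w : Desc.Lifts ((Desc.toDD π.left).obj U).obj x.left := ⟨v.1 ≫ emb, by
      show (v.1 ≫ emb) ≫ pullback.fst π.left U.hom = x.left
      rw [Category.assoc, hemb]
      exact v.2⟩
    have hx : x.left ≫ π.left = (lift g x ≫ aP.act).left ≫ π.left := (congrArg CommaMorphism.left hπ).symm
    have hc := e.inv.comm x.left (lift g x ≫ aP.act).left hx v w rfl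
    replace hc : (Desc.canMap π.left U x.left (lift g x ≫ aP.act).left hx w).1 =
      (gluing cart b x.left (lift g x ≫ aP.act).left hx v).1 ≫ emb := hc
    rw [gluing_spec cart b x (lift g x ≫ aP.act) f hπ rfl rfl hx v rfl, move, div_eq cart hπ rfl] at hc
    refine Over.OverMorphism.ext ?_
    show (lift (lift g x ≫ aP.act) (lift g f ≫ b.act)).left ≫ emb ≫ pullback.snd π.left U.hom =
      (lift x f).left ≫ emb ≫ pullback.snd π.left U.hom
    rw [← Category.assoc, ← hc, Desc.canMap_val, pullback.lift_snd]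
    exact Category.assoc _ _ _
  refine ⟨Q, q, r, hw, sq, isPullback_of_points ?_ fun W u v huv => ?_⟩
  · refine AlgGrp.Action.hom_ext_lift₂ fun W g z => ?_
    rw [lift_fst_snd_self z, AlgGrp.Action.lift_prod_act_assoc, hinv, lift_snd_assoc]
  · obtain ⟨x, f, rfl⟩ : ∃ (x : W ⟶ P) (f : W ⟶ F), u = lift x f := ⟨_, _, lift_fst_snd_self u⟩
    obtain ⟨x', f', rfl⟩ : ∃ (x' : W ⟶ P) (f' : W ⟶ F), v = lift x' f' := ⟨_, _, lift_fst_snd_self v⟩
    have hπ : x ≫ π = x' ≫ π := by simpa [hw] using congrArg (· ≫ r) huv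
    have hx := div_spec cart x x' hπ
    refine ⟨lift (div cart x x' hπ) (lift x' f'), ⟨?_, lift_snd _ _⟩, ?_⟩
    · refine sq.hom_ext ?_ ?_
      · rw [AlgGrp.Action.lift_prod_act, hinv, huv]
      · rw [AlgGrp.Action.lift_prod_act, lift_fst, lift_fst, hx]
    · rintro p ⟨hp1, hp2⟩
      obtain ⟨g, rfl⟩ : ∃ g : W ⟶ G, p = lift g (lift x' f') :=
        ⟨p ≫ fst G (P ⊗ F), by rw [← hp2]; exact lift_fst_snd_self p⟩
      rw [AlgGrp.Action.lift_prod_act] at hp1
      rw [div_eq cart hπ (g := g) (by simpa using congrArg (· ≫ fst P F) hp1)]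

include cart in
/-- The associated bundle of a torsor with affine fibre. -/
theorem exists_assoc [Surjective π.left] [Flat π.left] [QuasiCompact π.left] [IsAffineHom F.hom] :
    ∃ (Q : Over S) (q : P ⊗ F ⟶ Q) (r : Q ⟶ T), q ≫ r = fst P F ≫ π ∧ IsPullback q (fst P F) r π ∧
      IsPullback (aP.prod b).act (snd G (P ⊗ F)) q q := by
  have : IsAffineHom (fst P F).left := MorphismProperty.pullback_fst P.hom F.hom ‹IsAffineHom F.hom›
  have : IsAffineHom (datum cart b).obj.hom := this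
  exact exists_assoc_of_effective cart b (S1133.result π.left (datum cart b))

end Groth.Agent.BalLib
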