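import Groth.Agent.BalLib.Assoc
import Groth.Agent.S9866

/-!
# Associated bundles of torsors with sections locally for the Zariski topology
-/

set_option autoImplicit false
set_option backward.isDefEq.respectTransparency false

universe u

open CategoryTheory AlgebraicGeometry MonoidalCategory CartesianMonoidalCategory MonObj GrpObj Limits

namespace Groth.Agent.BalLib

variable {S : Scheme.{u}} {G P T F : Over S} [GrpObj G] {aP : AlgGrp.Action G P} {π : P ⟶ T}
  (cart : IsPullback aP.act (snd G P) π π) (b : AlgGrp.Action G F)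

theorem move_congr {W : Over S} {x₁ x₁' x₀ x₀' : W ⟶ P} {f f' : W ⟶ F} (h₁ : x₁ = x₁') (h₀ : x₀ = x₀')
    (hf : f = f') (h : x₁ ≫ π = x₀ ≫ π) :
    move cart b x₁ x₀ h f = move cart b x₁' x₀' (h₁ ▸ h₀ ▸ h) f' := by
  subst h₁ h₀ hf
  rfl

variable {WS : Over S} {w : WS ⟶ T} (σ : WS ⟶ P) (hσ : σ ≫ π = w)

/-- The chart over a member of the covering. -/
noncomputable abbrev chartBase : Over T.left := Over.mk (fst WS F ≫ w).left

/-- The chart, over the base scheme. -/
noncomputable abbrev chart : Over S :=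
  Over.mk (pullback.fst π.left (chartBase (F := F) (w := w)).hom ≫ P.hom)

/-- The point of the torsor of the chart. -/
noncomputable abbrev chartU : chart (π := π) (F := F) (w := w) ⟶ P := Over.homMk (pullback.fst _ _) rfl

/-- The point of the trivial bundle of the chart. -/
noncomputable abbrev chartX : chart (π := π) (F := F) (w := w) ⟶ WS ⊗ F :=
  Over.homMk (pullback.snd _ _) (by
    show pullback.snd π.left (fst WS F ≫ w).left ≫ (WS ⊗ F).hom = pullback.fst π.left (fst WS F ≫ w).left ≫ P.hom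
    rw [← Over.w π, pullback.condition_assoc, Over.w (fst WS F ≫ w)])

omit [GrpObj G] in
theorem isPullback_chart : IsPullback (chartU (π := π) (F := F) (w := w)) chartX π (fst WS F ≫ w) :=
  IsPullback.of_map (Over.forget S) (Over.OverMorphism.ext pullback.condition)
    (IsPullback.of_hasPullback π.left (fst WS F ≫ w).left)

include hσ in
theorem chart_w : chartU (π := π) (F := F) (w := w) ≫ π = (chartX ≫ fst WS F ≫ σ) ≫ π := by
  rw [isPullback_chart.w]
  simp [hσ]

/-- The comparison with the bundle. -/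
noncomputable def chartMap : chart (π := π) (F := F) (w := w) ⟶ P ⊗ F :=
  lift chartU (move cart b chartU (chartX ≫ fst WS F ≫ σ) (chart_w σ hσ) (chartX ≫ snd WS F))

theorem comp_chartMap {W : Over S} (c : W ⟶ chart (π := π) (F := F) (w := w)) :
    c ≫ chartMap cart b σ hσ = lift (c ≫ chartU)
      (move cart b (c ≫ chartU) (c ≫ chartX ≫ fst WS F ≫ σ)
        (by rw [Category.assoc, chart_w σ hσ]; simp) (c ≫ chartX ≫ snd WS F)) := by
  rw [chartMap, comp_lift, comp_move]

theorem isPullback_chartMap :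
    IsPullback (chartMap cart b σ hσ) (chartX ≫ fst WS F) (fst P F ≫ π) w := by
  refine isPullback_of_points ?_ fun W z ws h => ?_
  · rw [chartMap, lift_fst_assoc, chart_w σ hσ]
    simp [hσ]
  · have hu : (z ≫ fst P F) ≫ π = (ws ≫ σ) ≫ π := by rw [Category.assoc, h, Category.assoc, hσ]
    let f := move cart b (ws ≫ σ) (z ≫ fst P F) hu.symm (z ≫ snd P F)
    have hc : (z ≫ fst P F) ≫ π = lift ws f ≫ fst WS F ≫ w := by rw [hu, lift_fst_assoc, Category.assoc, hσ]
    let c := isPullback_chart.lift (z ≫ fst P F) (lift ws f) hc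
    have hc₁ : c ≫ chartU = z ≫ fst P F := isPullback_chart.lift_fst _ _ hc
    have hc₂ : c ≫ chartX = lift ws f := isPullback_chart.lift_snd _ _ hc
    refine ⟨c, ⟨?_, ?_⟩, ?_⟩
    · rw [comp_chartMap, move_congr cart b hc₁ (show c ≫ chartX ≫ fst WS F ≫ σ = ws ≫ σ by
          rw [reassoc_of% hc₂, lift_fst_assoc]) (show c ≫ chartX ≫ snd WS F = f by rw [reassoc_of% hc₂, lift_snd]),
        move_move, move_self, hc₁, ← lift_fst_snd_self]
    · rw [reassoc_of% hc₂, lift_fst]
    · rintro c' ⟨h₁, h₂⟩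
      rw [comp_chartMap] at h₁
      have e₁ : c' ≫ chartU = z ≫ fst P F := by
        have := congrArg (· ≫ fst P F) h₁
        simpa only [lift_fst] using this
      have e₂ : c' ≫ chartX ≫ fst WS F ≫ σ = ws ≫ σ := by rw [← h₂]; simp
      have e₃ := congrArg (· ≫ snd P F) h₁
      simp only [lift_snd] at e₃
      rw [move_congr cart b e₁ e₂ rfl] at e₃
      have e₄ : c' ≫ chartX ≫ snd WS F = f := by
        simp only [f, ← e₃]
        rw [move_move, move_self]
      refine isPullback_chart.hom_ext (e₁.trans hc₁.symm) ?_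
      rw [hc₂, lift_fst_snd_self (c' ≫ chartX)]
      simp only [Category.assoc, h₂, e₄]

/-- The morphism of descent data given by the chart. -/
noncomputable def chartHom : (Desc.toDD π.left).obj (chartBase (F := F) (w := w)) ⟶ datum cart b where
  hom := Over.homMk (chartMap cart b σ hσ).left (by
    show (chartMap cart b σ hσ).left ≫ (fst P F).left = pullback.fst _ _
    rw [← Over.comp_left, chartMap, lift_fst]
    rfl)
  comm V x₀ x₁ h v v' hv := by
    let W : Over S := Over.mk (x₀ ≫ P.hom)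
    let X₀ : W ⟶ P := Over.homMk x₀ rfl
    let X₁ : W ⟶ P := Over.homMk x₁ (w_of_proj h)
    let C : W ⟶ chart (π := π) (F := F) (w := w) := Over.homMk v.1 (by
      show v.1 ≫ pullback.fst _ _ ≫ P.hom = x₀ ≫ P.hom
      rw [← Category.assoc]
      exact congrArg (· ≫ P.hom) v.2)
    let v₁ := Desc.canMap π.left (chartBase (F := F) (w := w)) x₀ x₁ h v
    let C₁ : W ⟶ chart (π := π) (F := F) (w := w) := Over.homMk v₁.1 (by
      show v₁.1 ≫ pullback.fst _ _ ≫ P.hom = x₀ ≫ P.hom
      rw [← Category.assoc]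
      exact (congrArg (· ≫ P.hom) v₁.2).trans (w_of_proj h))
    have hC : C ≫ chartU = X₀ := Over.OverMorphism.ext v.2
    have hC₁ : C₁ ≫ chartU = X₁ := Over.OverMorphism.ext v₁.2
    have hX : C₁ ≫ chartX = C ≫ chartX := Over.OverMorphism.ext (pullback.lift_snd _ _ _)
    have hπ : X₁ ≫ π = X₀ ≫ π := Over.OverMorphism.ext h.symm
    have hX₀ : X₀ ≫ π = (C ≫ chartX ≫ fst WS F ≫ σ) ≫ π := by
      rw [← hC, Category.assoc, chart_w σ hσ]; simp
    have hv' : v'.1 = (lift X₀ (move cart b X₀ (C ≫ chartX ≫ fst WS F ≫ σ) hX₀ (C ≫ chartX ≫ snd WS F))).left := by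
      refine hv.trans ?_
      show (C ≫ chartMap cart b σ hσ).left = _
      rw [comp_chartMap, move_congr cart b hC rfl rfl]
      exact congrArg CommaMorphism.left (congrArg (fun r => lift r _) hC)
    show (gluing cart b x₀ x₁ h v').1 = v₁.1 ≫ (chartMap cart b σ hσ).left
    rw [gluing_spec cart b (W := W) (x₀ := x₀) (x₁ := x₁) X₀ X₁ _ hπ rfl rfl h v' hv', move_move,
      show v₁.1 ≫ (chartMap cart b σ hσ).left = (C₁ ≫ chartMap cart b σ hσ).left from rfl, comp_chartMap,
      move_congr cart b hC₁ (show C₁ ≫ chartX ≫ fst WS F ≫ σ = C ≫ chartX ≫ fst WS F ≫ σ by rw [reassoc_of% hX])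
        (show C₁ ≫ chartX ≫ snd WS F = C ≫ chartX ≫ snd WS F by rw [reassoc_of% hX])]
    exact congrArg CommaMorphism.left (congrArg (fun r => lift r _) hC₁.symm)

omit σ in
include cart in
/-- The associated bundle of a torsor which is trivial locally for the Zariski topology. -/
theorem exists_assoc_of_zariski [Surjective π.left] [Flat π.left] [QuasiCompact π.left]
    (hzar : ∀ y : T.left, ∃ (W : T.left.Opens) (s : (↑W : Scheme.{u}) ⟶ P.left), y ∈ W ∧ s ≫ π.left = W.ι) :
    ∃ (Q : Over S) (q : P ⊗ F ⟶ Q) (r : Q ⟶ T), q ≫ r = fst P F ≫ π ∧ IsPullback q (fst P F) r π ∧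
      IsPullback (aP.prod b).act (snd G (P ⊗ F)) q q := by
  refine exists_assoc_of_effective cart b (S9866.result π.left (datum cart b) fun v => ?_)
  let z : (P ⊗ F).left := v
  obtain ⟨W, s, hy, hs⟩ := hzar ((fst P F ≫ π).left z)
  let WS : Over S := Over.mk (W.ι ≫ T.hom)
  let w : WS ⟶ T := Over.homMk W.ι rfl
  let σ : WS ⟶ P := Over.homMk s (by
    show s ≫ P.hom = W.ι ≫ T.hom
    rw [← Over.w π, ← Category.assoc, hs])
  have hσ : σ ≫ π = w := Over.OverMorphism.ext hs
  have sq : IsPullback (chartMap cart b σ hσ).left (chartX ≫ fst WS F).left (fst P F ≫ π).left W.ι :=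
    (isPullback_chartMap cart b σ hσ).map (Over.forget S)
  refine ⟨_, chartHom cart b σ hσ, ?_, ?_, _, ⟨Iso.refl _⟩⟩
  · exact MorphismProperty.of_isPullback (P := @IsOpenImmersion) sq.flip inferInstance
  · obtain ⟨u, hu, -⟩ := Scheme.Pullback.exists_preimage_pullback (f := (fst P F ≫ π).left) (g := W.ι) z ⟨_, hy⟩ rfl
    refine ⟨sq.isoPullback.inv u, ?_⟩
    show (chartMap cart b σ hσ).left (sq.isoPullback.inv u) = z
    rw [← Scheme.Hom.comp_apply, sq.isoPullback_inv_fst]
    exact hu

end Groth.Agent.BalLib
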