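import Groth.Agent.BalLib.Locally

/-!
# The product with a homogeneous space as a balanced product
-/

set_option autoImplicit false

universe u

open CategoryTheory AlgebraicGeometry MonoidalCategory CartesianMonoidalCategory MonObj GrpObj Limits

namespace Groth.Agent.BalLib

variable {S : Scheme.{u}} {G H X Q : Over S} [GrpObj G] [GrpObj H] {i : H ⟶ G} [IsMonHom i]
  (aX : AlgGrp.Action G X) {aQ : AlgGrp.Action G Q} {q₀ : 𝟙_ (Over S) ⟶ Q}

/-- `G ×^H X` is `G/H × X`. -/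
theorem isBalProd_of_isHomog_prod (hQ : ChGrp.IsHomog Scheme.fppfPrecoverage i aQ q₀) :
    ChGrp.IsBalProd Scheme.fppfPrecoverage i (aX.restrict i) (aQ.prod aX)
      (lift (fst G X ≫ aQ.orbitMap q₀) aX.act) := by
  obtain ⟨-, sq, hloc⟩ := hQ
  have hj : ∀ (T : Over S) (g : T ⟶ G) (x : T ⟶ X),
      lift g x ≫ lift (fst G X ≫ aQ.orbitMap q₀) aX.act = lift (g ≫ aQ.orbitMap q₀) (lift g x ≫ aX.act) := by
    intro T g x
    rw [comp_lift, lift_fst_assoc]
  have hco : ∀ (T : Over S) (g : T ⟶ G) (h : T ⟶ H), (g * (h ≫ i)) ≫ aQ.orbitMap q₀ = g ≫ aQ.orbitMap q₀ := by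
    intro T g h
    have e := congrArg (lift g h ≫ ·) sq.w
    simp only [lift_fst_assoc, Category.assoc, lift_whiskerLeft_assoc] at e
    rw [Hom.mul_def, Category.assoc]
    exact e.symm
  refine ⟨AlgGrp.Action.hom_ext_lift₂ fun T k u => ?_, isPullback_of_points ?_ ?_, ?_⟩
  · obtain ⟨g, x, rfl⟩ : ∃ (g : T ⟶ G) (x : T ⟶ X), u = lift g x := ⟨_, _, lift_fst_snd_self u⟩
    rw [AlgGrp.Action.lift_prod_act_assoc, AlgGrp.Action.lift_trivial_act, lift_whiskerLeft_assoc, hj, hj,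
      AlgGrp.Action.lift_prod_act]
    show lift ((lift k g ≫ μ[G]) ≫ _) (lift (lift k g ≫ μ[G]) x ≫ aX.act) = _
    rw [← Hom.mul_def, AlgGrp.Action.lift_mul_act, AlgGrp.Action.comp_orbitMap, AlgGrp.Action.comp_orbitMap,
      AlgGrp.Action.lift_mul_act]
  · refine AlgGrp.Action.hom_ext_lift₂ fun T h u => ?_
    obtain ⟨g, x, rfl⟩ : ∃ (g : T ⟶ G) (x : T ⟶ X), u = lift g x := ⟨_, _, lift_fst_snd_self u⟩
    rw [ChGrp.lift_twist_act_assoc, lift_snd_assoc, hj, hj, AlgGrp.Action.lift_restrict_act,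
      ← AlgGrp.Action.lift_mul_act, inv_mul_cancel_right]
    exact congrArg (lift · _) (by rw [← hco T _ h, inv_mul_cancel_right])
  · intro T u v huv
    obtain ⟨g, x, rfl⟩ : ∃ (g : T ⟶ G) (x : T ⟶ X), u = lift g x := ⟨_, _, lift_fst_snd_self u⟩
    obtain ⟨g', x', rfl⟩ : ∃ (g' : T ⟶ G) (x' : T ⟶ X), v = lift g' x' := ⟨_, _, lift_fst_snd_self v⟩
    rw [hj, hj] at huv
    have e1 : g ≫ aQ.orbitMap q₀ = g' ≫ aQ.orbitMap q₀ := by simpa using congrArg (· ≫ fst Q X) huv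
    have e2 : lift g x ≫ aX.act = lift g' x' ≫ aX.act := by simpa using congrArg (· ≫ snd Q X) huv
    let c := sq.lift g g' e1
    have hc1 : c ≫ fst G H = g := sq.lift_fst _ _ e1
    have hc2 : c ≫ (G ◁ i) ≫ μ[G] = g' := sq.lift_snd _ _ e1
    obtain ⟨h, hh⟩ : ∃ h : T ⟶ H, c = lift g h := ⟨c ≫ snd G H, by rw [← hc1]; exact lift_fst_snd_self c⟩
    rw [hh, lift_whiskerLeft_assoc, ← Hom.mul_def] at hc2
    subst hc2
    refine ⟨lift h (lift (g * (h ≫ i)) x'), ⟨?_, lift_snd _ _⟩, ?_⟩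
    · rw [ChGrp.lift_twist_act, mul_inv_cancel_right, AlgGrp.Action.lift_restrict_act]
      refine congrArg (lift g ·) ?_
      have e3 := congrArg (fun t => lift g⁻¹ t ≫ aX.act) e2
      rw [← AlgGrp.Action.lift_mul_act, ← AlgGrp.Action.lift_mul_act, inv_mul_cancel, AlgGrp.Action.lift_one_act,
        inv_mul_cancel_left] at e3
      exact e3.symm
    · rintro p ⟨hp1, hp2⟩
      obtain ⟨h', rfl⟩ : ∃ h' : T ⟶ H, p = lift h' (lift (g * (h ≫ i)) x') :=
        ⟨p ≫ fst H (G ⊗ X), by rw [← hp2]; exact lift_fst_snd_self p⟩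
      rw [ChGrp.lift_twist_act] at hp1
      have e4 : g * (h ≫ i) * (h' ≫ i)⁻¹ = g := by simpa using congrArg (· ≫ fst G X) hp1
      have e5 : lift g h' = lift g h := by
        refine sq.hom_ext (by simp) ?_
        rw [lift_whiskerLeft_assoc, lift_whiskerLeft_assoc, ← Hom.mul_def, ← Hom.mul_def]
        exact (mul_inv_eq_iff_eq_mul.1 e4).symm
      have e6 : h' = h := by simpa using congrArg (· ≫ snd G H) e5
      rw [e6]
  · have sq' := IsPullback.of_hasPullback (aQ.orbitMap q₀) (fst Q X)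
    let g := pullback.fst (aQ.orbitMap q₀) (fst Q X)
    let y := pullback.snd (aQ.orbitMap q₀) (fst Q X)
    refine (((hasLocSec_of_isLocallyTrivialFor _ hloc).of_isPullback sq').of_factor
      (lift g (lift g⁻¹ (y ≫ snd Q X) ≫ aX.act)) ?_).isLocallyTrivialFor
    rw [hj, ← AlgGrp.Action.lift_mul_act, mul_inv_cancel, AlgGrp.Action.lift_one_act, pullback.condition]
    exact (lift_fst_snd_self y).symm

end Groth.Agent.BalLib
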