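import Groth.Agent.BalLib.Points
import Mathlib.CategoryTheory.Comma.Over.Pullback

/-!
# From local sections to local triviality
-/

set_option autoImplicit false

universe u

open CategoryTheory AlgebraicGeometry MonoidalCategory CartesianMonoidalCategory MonObj Limits

namespace Groth.Agent.BalLib

variable {S : Scheme.{u}}

/-- A morphism with fppf-local sections is locally trivial for the fppf precoverage. -/
theorem HasLocSec.isLocallyTrivialFor {U Y : Over S} {j : U ⟶ Y} (hj : HasLocSec j) :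
    NonAbH1.IsLocallyTrivialFor Scheme.fppfPrecoverage (Over.mk j.left : Over Y.left) := by
  obtain ⟨R, hR, hsec⟩ := hj
  have : (@Flat ⊓ @LocallyOfFinitePresentation : MorphismProperty Scheme.{u}).ContainsIdentities :=
    ⟨fun X => ⟨inferInstanceAs (Flat (𝟙 X)), inferInstanceAs (LocallyOfFinitePresentation (𝟙 X))⟩⟩
  have : Scheme.fppfPrecoverage.HasIsos :=
    inferInstanceAs (Scheme.precoverage (@Flat ⊓ @LocallyOfFinitePresentation)).HasIsos
  have : Scheme.fppfPrecoverage.HasPullbacks := ⟨fun {X} R f hR => inferInstance⟩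
  obtain ⟨Rp, hRp, hle⟩ := Precoverage.mem_toGrothendieck_iff_of_isStableUnderComposition.1 hR
  refine ⟨Rp, hRp, fun S' f hf => ?_⟩
  obtain ⟨s, hs⟩ := hsec f (hle _ _ hf)
  exact ⟨s, hs⟩

/-- A balanced product pulls back along an equivariant monomorphism. -/
theorem exists_isBalProd_of_mono {Q G X Y Y' : Over S} [GrpObj Q] [GrpObj G] {i : G ⟶ Q} [IsMonHom i]
    {aX : AlgGrp.Action G X} {aY : AlgGrp.Action Q Y} {j : Q ⊗ X ⟶ Y}
    (hY : ChGrp.IsBalProd Scheme.fppfPrecoverage i aX aY j) (c : Y' ⟶ Y) [Mono c] (aY' : AlgGrp.Action Q Y')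
    (hc : AlgGrp.Action.IsEquivariant aY' aY c) :
    ∃ (X' : Over S) (c' : X' ⟶ X) (aX' : AlgGrp.Action G X') (j' : Q ⊗ X' ⟶ Y'),
      (∃ b : X' ⟶ Y', IsPullback c' b (lift (1 : X ⟶ Q) (𝟙 X) ≫ j) c) ∧
      AlgGrp.Action.IsEquivariant aX' aX c' ∧ j' ≫ c = (Q ◁ c') ≫ j ∧
      ChGrp.IsBalProd Scheme.fppfPrecoverage i aX' aY' j' := by
  let e : X ⟶ Y := lift (1 : X ⟶ Q) (𝟙 X) ≫ j
  let X' := Limits.pullback e c
  let c' : X' ⟶ X := pullback.fst e c
  let b : X' ⟶ Y' := pullback.snd e c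
  have he : ∀ (T : Over S) (x : T ⟶ X), x ≫ e = lift (1 : T ⟶ Q) x ≫ j := by
    intro T x
    show x ≫ lift (1 : X ⟶ Q) (𝟙 X) ≫ j = _
    rw [comp_lift_assoc, Category.comp_id, MonObj.comp_one]
  have hje : ∀ (T : Over S) (q : T ⟶ Q) (x : T ⟶ X), lift q x ≫ j = lift q (x ≫ e) ≫ aY.act := by
    intro T q x
    rw [he, balProd_act hY, _root_.mul_one]
  have hc' : ∀ (T : Over S) (q : T ⟶ Q) (y : T ⟶ Y'),
      (lift q y ≫ aY'.act) ≫ c = lift q (y ≫ c) ≫ aY.act := by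
    intro T q y
    have h := congrArg (lift q y ≫ ·) hc
    simpa only [← Category.assoc, lift_whiskerLeft] using h
  -- the action on `X'`
  have hmem : ((G ◁ c') ≫ aX.act) ≫ e = (lift (fst G X' ≫ i) (snd G X' ≫ b) ≫ aY'.act) ≫ c := by
    refine AlgGrp.Action.hom_ext_lift₂ fun T g x => ?_
    simp only [← Category.assoc, lift_whiskerLeft, comp_lift, lift_fst, lift_snd]
    rw [hc', he, show lift (1 : T ⟶ Q) (lift g (x ≫ c') ≫ aX.act) ≫ j = lift (g ≫ i) (x ≫ c') ≫ j by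
      rw [← balProd_twist hY g (g ≫ i) (x ≫ c'), mul_inv_cancel], hje]
    simp only [Category.assoc]
    rw [pullback.condition]
  let act : G ⊗ X' ⟶ X' := pullback.lift ((G ◁ c') ≫ aX.act) (lift (fst G X' ≫ i) (snd G X' ≫ b) ≫ aY'.act) hmem
  have hactc : act ≫ c' = (G ◁ c') ≫ aX.act := pullback.lift_fst _ _ _
  have hmc' : Mono c' := inferInstanceAs (Mono (pullback.fst e c))
  have hc'T : ∀ (T : Over S) (g : T ⟶ G) (x : T ⟶ X'),
      (lift g x ≫ act) ≫ c' = lift g (x ≫ c') ≫ aX.act := by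
    intro T g x
    rw [Category.assoc, hactc, lift_whiskerLeft_assoc]
  let aX' : AlgGrp.Action G X' :=
    { act := act
      one_act := by
        rw [← cancel_mono c', Category.assoc, hactc, ← whisker_exchange_assoc, aX.one_act, leftUnitor_naturality]
      mul_act := by
        refine AlgGrp.Action.hom_ext_lift₃ fun T g g' x => ?_
        rw [lift_whiskerRight_assoc, lift_lift_associator_hom_assoc, lift_whiskerLeft_assoc, ← Hom.mul_def,
          ← cancel_mono c', hc'T, hc'T, hc'T, AlgGrp.Action.lift_mul_act] }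
  let j' : Q ⊗ X' ⟶ Y' := (Q ◁ b) ≫ aY'.act
  have hjT : ∀ (T : Over S) (q : T ⟶ Q) (x : T ⟶ X'), (lift q x ≫ j') ≫ c = lift q (x ≫ c') ≫ j := by
    intro T q x
    show (lift q x ≫ (Q ◁ b) ≫ aY'.act) ≫ c = _
    rw [lift_whiskerLeft_assoc, hc', hje, Category.assoc, Category.assoc, pullback.condition]
  have hj' : j' ≫ c = (Q ◁ c') ≫ j := by
    refine AlgGrp.Action.hom_ext_lift₂ fun T q x => ?_
    rw [← Category.assoc, hjT, lift_whiskerLeft_assoc]
  refine ⟨X', c', aX', j', ⟨b, IsPullback.of_hasPullback e c⟩, hactc, hj', ?_, ?_, ?_⟩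
  · refine AlgGrp.Action.hom_ext_lift₂ fun T k u => ?_
    obtain ⟨q, x, rfl⟩ : ∃ (q : T ⟶ Q) (x : T ⟶ X'), u = lift q x :=
      ⟨u ≫ fst Q X', u ≫ snd Q X', lift_fst_snd_self u⟩
    rw [AlgGrp.Action.lift_prod_act_assoc, AlgGrp.Action.lift_trivial_act, ← Category.assoc (lift k _),
      lift_whiskerLeft]
    show lift (lift k q ≫ μ[Q]) x ≫ (Q ◁ b) ≫ aY'.act = lift k (lift q x ≫ (Q ◁ b) ≫ aY'.act) ≫ aY'.act
    rw [← Hom.mul_def, lift_whiskerLeft_assoc, lift_whiskerLeft_assoc, AlgGrp.Action.lift_mul_act]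
  · refine isPullback_of_points ?_ ?_
    · refine AlgGrp.Action.hom_ext_lift₂ fun T g u => ?_
      obtain ⟨q, x, rfl⟩ : ∃ (q : T ⟶ Q) (x : T ⟶ X'), u = lift q x :=
        ⟨u ≫ fst Q X', u ≫ snd Q X', lift_fst_snd_self u⟩
      rw [ChGrp.lift_twist_act_assoc, lift_snd_assoc, ← cancel_mono c, hjT, hjT]
      show lift _ ((lift g x ≫ act) ≫ c') ≫ j = _
      rw [hc'T, balProd_twist hY]
    · intro T u v huv
      obtain ⟨q, x, rfl⟩ : ∃ (q : T ⟶ Q) (x : T ⟶ X'), u = lift q x :=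
        ⟨u ≫ fst Q X', u ≫ snd Q X', lift_fst_snd_self u⟩
      obtain ⟨q', x', rfl⟩ : ∃ (q' : T ⟶ Q) (x' : T ⟶ X'), v = lift q' x' :=
        ⟨v ≫ fst Q X', v ≫ snd Q X', lift_fst_snd_self v⟩
      have e1 := congrArg (· ≫ c) huv
      simp only [hjT] at e1
      obtain ⟨g, hq, hx⟩ := balProd_eq hY e1
      have hx' : x = lift g x' ≫ act := by rw [← cancel_mono c', hc'T, hx]
      refine ⟨lift g (lift q' x'), ⟨?_, lift_snd _ _⟩, ?_⟩
      · rw [ChGrp.lift_twist_act, ← hq]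
        exact congrArg (lift q ·) hx'.symm
      · rintro p ⟨hp1, hp2⟩
        obtain ⟨g', rfl⟩ : ∃ g' : T ⟶ G, p = lift g' (lift q' x') :=
          ⟨p ≫ fst G (Q ⊗ X'), by rw [← hp2]; exact lift_fst_snd_self p⟩
        rw [ChGrp.lift_twist_act] at hp1
        have hgg : lift g' (lift q' (x' ≫ c')) = lift g (lift q' (x' ≫ c')) := by
          refine hY.2.1.hom_ext ?_ (by simp)
          rw [ChGrp.lift_twist_act, ChGrp.lift_twist_act, ← hq, ← hx]
          have hp3 : q' * (g' ≫ i)⁻¹ = q := by simpa using congrArg (· ≫ fst Q X') hp1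
          have hp4 : lift g' x' ≫ act = x := by simpa using congrArg (· ≫ snd Q X') hp1
          rw [hp3, ← hc'T, hp4]
        have hg : g' = g := by simpa using congrArg (· ≫ fst G (Q ⊗ X)) hgg
        rw [hg]
  · refine ((hasLocSec_of_isLocallyTrivialFor j hY.2.2).of_isPullback (a := Q ◁ c') (b := j') (y := c)
      (isPullback_of_points hj'.symm fun T u y huy => ?_)).isLocallyTrivialFor
    obtain ⟨q, x, rfl⟩ : ∃ (q : T ⟶ Q) (x : T ⟶ X), u = lift q x :=
      ⟨u ≫ fst Q X, u ≫ snd Q X, lift_fst_snd_self u⟩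
    have hx : x ≫ e = (lift q⁻¹ y ≫ aY'.act) ≫ c := by
      rw [hc', ← huy, hje, ← AlgGrp.Action.lift_mul_act, inv_mul_cancel, AlgGrp.Action.lift_one_act]
    refine ⟨lift q (pullback.lift x (lift q⁻¹ y ≫ aY'.act) hx), ⟨?_, ?_⟩, ?_⟩
    · rw [lift_whiskerLeft]
      exact congrArg (lift q ·) (pullback.lift_fst _ _ _)
    · rw [← cancel_mono c, hjT]
      show lift q (pullback.lift x _ hx ≫ pullback.fst e c) ≫ j = _
      rw [pullback.lift_fst]
      exact huy
    · rintro p ⟨hp1, -⟩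
      obtain ⟨p₁, p₂, rfl⟩ : ∃ (p₁ : T ⟶ Q) (p₂ : T ⟶ X'), p = lift p₁ p₂ :=
        ⟨p ≫ fst Q X', p ≫ snd Q X', lift_fst_snd_self p⟩
      rw [lift_whiskerLeft] at hp1
      have hp₁ : p₁ = q := by simpa using congrArg (· ≫ fst Q X) hp1
      have hp₂ : p₂ ≫ c' = x := by simpa using congrArg (· ≫ snd Q X) hp1
      rw [hp₁]
      refine congrArg (lift q ·) ((cancel_mono c').1 ?_)
      rw [hp₂]
      exact (pullback.lift_fst _ _ _).symm

end Groth.Agent.BalLib
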