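import Groth.Agent.BalLib.Descent
import Groth.Agent.AlgSpPts.FppfTarget
import Mathlib.CategoryTheory.Limits.Shapes.Pullback.HasPullback

/-!
# Balanced products on points
-/

set_option autoImplicit false

universe u

open CategoryTheory AlgebraicGeometry MonoidalCategory CartesianMonoidalCategory MonObj Limits

namespace Groth.Agent.BalLib

variable {S : Scheme.{u}}

/-- A square of `S`-schemes with the universal property on points is cartesian. -/
theorem isPullback_of_points {P X Y Z : Over S} {a : P ⟶ X} {b : P ⟶ Y} {f : X ⟶ Z} {g : Y ⟶ Z}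
    (w : a ≫ f = b ≫ g) (h : ∀ (T : Over S) (x : T ⟶ X) (y : T ⟶ Y), x ≫ f = y ≫ g → ∃! p : T ⟶ P, p ≫ a = x ∧ p ≫ b = y) :
    IsPullback a b f g := by
  refine ⟨⟨w⟩, ⟨PullbackCone.IsLimit.mk w (fun s => (h s.pt s.fst s.snd s.condition).exists.choose)
    (fun s => (h s.pt s.fst s.snd s.condition).exists.choose_spec.1)
    (fun s => (h s.pt s.fst s.snd s.condition).exists.choose_spec.2) fun s m hm₁ hm₂ => ?_⟩⟩
  exact (h s.pt s.fst s.snd s.condition).unique ⟨hm₁, hm₂⟩ (h s.pt s.fst s.snd s.condition).exists.choose_spec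

/-- Local sections are stable under base change. -/
theorem HasLocSec.of_isPullback {U Y T P : Over S} {j : U ⟶ Y} (hj : HasLocSec j) {a : P ⟶ U} {b : P ⟶ T}
    {y : T ⟶ Y} (sq : IsPullback a b j y) : HasLocSec b := by
  obtain ⟨R, hR, hsec⟩ := hj
  refine ⟨R.pullback y.left, Scheme.fppfTopology.pullback_stable _ hR, fun V v hv => ?_⟩
  obtain ⟨s, hs⟩ := hsec _ hv
  let V' : Over S := Over.mk (v ≫ T.hom)
  let v' : V' ⟶ T := Over.homMk v rfl
  let s' : V' ⟶ U := Over.homMk s (by
    show s ≫ U.hom = v ≫ T.hom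
    rw [← Over.w j, ← Category.assoc, hs, Category.assoc, Over.w y])
  have hw : s' ≫ j = v' ≫ y := Over.OverMorphism.ext hs
  exact ⟨(sq.lift s' v' hw).left, congrArg CommaMorphism.left (sq.lift_snd s' v' hw)⟩

variable {Q G X Y : Over S} [GrpObj Q] [GrpObj G] {i : G ⟶ Q} [IsMonHom i] {aX : AlgGrp.Action G X}
  {aY : AlgGrp.Action Q Y} {j : Q ⊗ X ⟶ Y}

/-- The action on a balanced product on points. -/
theorem balProd_act {K : Precoverage Scheme.{u}} (hY : ChGrp.IsBalProd K i aX aY j) {T : Over S}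
    (q q' : T ⟶ Q) (x : T ⟶ X) : lift q (lift q' x ≫ j) ≫ aY.act = lift (q * q') x ≫ j := by
  have h := congrArg (lift q (lift q' x) ≫ ·) hY.1
  simp only [← Category.assoc, lift_whiskerLeft] at h
  rw [AlgGrp.Action.lift_prod_act, AlgGrp.Action.lift_trivial_act] at h
  rw [← h]
  congr 2

/-- The twisted relation on a balanced product. -/
theorem balProd_twist {K : Precoverage Scheme.{u}} (hY : ChGrp.IsBalProd K i aX aY j) {T : Over S}
    (g : T ⟶ G) (q : T ⟶ Q) (x : T ⟶ X) :
    lift (q * (g ≫ i)⁻¹) (lift g x ≫ aX.act) ≫ j = lift q x ≫ j := by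
  have h' := congrArg (lift g (lift q x) ≫ ·) hY.2.1.w
  simp only [← Category.assoc, lift_snd] at h'
  rwa [ChGrp.lift_twist_act] at h'

/-- Two points with the same image in a balanced product differ by the twisted action. -/
theorem balProd_eq {K : Precoverage Scheme.{u}} (hY : ChGrp.IsBalProd K i aX aY j) {T : Over S}
    {q q' : T ⟶ Q} {x x' : T ⟶ X} (h : lift q x ≫ j = lift q' x' ≫ j) :
    ∃ g : T ⟶ G, q = q' * (g ≫ i)⁻¹ ∧ x = lift g x' ≫ aX.act := by
  let c := hY.2.1.lift (lift q x) (lift q' x') h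
  have h1 : c ≫ (ChGrp.twist i aX).act = lift q x := hY.2.1.lift_fst _ _ h
  have h2 : c ≫ snd G (Q ⊗ X) = lift q' x' := hY.2.1.lift_snd _ _ h
  have hc : c = lift (c ≫ fst G (Q ⊗ X)) (lift q' x') := by
    rw [← h2]
    ext <;> simp
  rw [hc, ChGrp.lift_twist_act] at h1
  exact ⟨c ≫ fst G (Q ⊗ X), (by simpa using (congrArg (· ≫ fst Q X) h1).symm),
    (by simpa using (congrArg (· ≫ snd Q X) h1).symm)⟩

theorem lift_fst_snd_self {T A B : Over S} (u : T ⟶ A ⊗ B) : u = lift (u ≫ fst A B) (u ≫ snd A B) := by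
  ext <;> simp

end Groth.Agent.BalLib
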