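import Groth.Agent.BalLib.Assoc
import Groth.Agent.BalLib.Locally
import Groth.Agent.FibBase.Basic
import Groth.Agent.EtFound.Descent

/-!
# The quotient stack of a balanced product
-/

set_option autoImplicit false
set_option backward.isDefEq.respectTransparency false

universe u

open CategoryTheory AlgebraicGeometry MonoidalCategory CartesianMonoidalCategory MonObj GrpObj Limits

namespace Groth.Agent.BalLib.QStk

variable {S : Scheme.{u}} {G H Z Y : Over S} [GrpObj G] [GrpObj H] {i : H ⟶ G} [IsMonHom i]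
  {aZ : AlgGrp.Action H Z} {aY : AlgGrp.Action G Y} {j : G ⊗ Z ⟶ Y}
  (hY : ChGrp.IsBalProd Scheme.fppfPrecoverage i aZ aY j)

variable (Z j) in
/-- The map `z ↦ j (1, z)`. -/
noncomputable def e : Z ⟶ Y := lift (1 : Z ⟶ G) (𝟙 Z) ≫ j

omit [GrpObj H] [IsMonHom i] in
theorem comp_e {W : Over S} (z : W ⟶ Z) : z ≫ e Z j = lift (1 : W ⟶ G) z ≫ j := by
  show z ≫ lift (1 : Z ⟶ G) (𝟙 Z) ≫ j = _
  rw [comp_lift_assoc, Category.comp_id, MonObj.comp_one]

include hY in
theorem j_eq {W : Over S} (g : W ⟶ G) (z : W ⟶ Z) : lift g z ≫ j = lift g (z ≫ e Z j) ≫ aY.act := by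
  rw [comp_e, balProd_act hY, _root_.mul_one]

include hY in
theorem act_e {W : Over S} (h : W ⟶ H) (z : W ⟶ Z) :
    lift (h ≫ i) (z ≫ e Z j) ≫ aY.act = (lift h z ≫ aZ.act) ≫ e Z j := by
  rw [← j_eq hY, comp_e, ← balProd_twist hY h (h ≫ i) z, mul_inv_cancel]

include hY in
theorem exists_of_e_eq {W : Over S} {g : W ⟶ G} {z z' : W ⟶ Z} (h : z ≫ e Z j = lift g z' ≫ j) :
    ∃ k : W ⟶ H, k ≫ i = g ∧ z = lift k z' ≫ aZ.act := by
  rw [comp_e] at h
  obtain ⟨k, hk, hz⟩ := balProd_eq hY h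
  exact ⟨k, by rw [eq_comm, mul_inv_eq_one] at hk; exact hk.symm, hz⟩

variable [Mono i]

include hY in
theorem mono_e : Mono (e Z j) := by
  refine ⟨fun {W} z z' h => ?_⟩
  rw [comp_e (z := z')] at h
  obtain ⟨k, hk, hz⟩ := exists_of_e_eq hY h
  have : k = 1 := by rw [← cancel_mono i, hk, MonObj.one_comp]
  rw [hz, this, AlgGrp.Action.lift_one_act]

variable (A : AlgSt.QuotObj Scheme.fppfPrecoverage G aY)

/-- The points of the torsor lying over the slice. -/
noncomputable abbrev sl : Over S := pullback A.φ (e Z j)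

/-- The inclusion of the slice. -/
noncomputable abbrev ι₀ : sl (Z := Z) (j := j) A ⟶ A.P := pullback.fst A.φ (e Z j)

omit [Mono i] in
theorem eqv_pt {W : Over S} (g : W ⟶ G) (x : W ⟶ A.P) :
    (lift g x ≫ A.act.act) ≫ A.φ = lift g (x ≫ A.φ) ≫ aY.act := by
  rw [Category.assoc, A.eqv, lift_whiskerLeft_assoc]

omit [Mono i] in
include hY in
theorem slice_cond : (lift (fst H (sl (Z := Z) (j := j) A) ≫ i) (snd H (sl A) ≫ ι₀ A) ≫ A.act.act) ≫ A.φ =
    (lift (fst H (sl A)) (snd H (sl A) ≫ pullback.snd A.φ (e Z j)) ≫ aZ.act) ≫ e Z j := by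
  rw [eqv_pt, ← act_e hY, Category.assoc, Category.assoc, pullback.condition]

/-- The action on the slice. -/
noncomputable def slAct : AlgGrp.Action H (sl (Z := Z) (j := j) A) where
  act := pullback.lift _ _ (slice_cond hY A)
  one_act := by
    have := mono_e hY
    have hu : η[H] ▷ sl (Z := Z) (j := j) A ≫ fst H _ = 1 := by
      rw [whiskerRight_fst, Hom.one_def]
      congr 1
    rw [← cancel_mono (ι₀ A), Category.assoc, pullback.lift_fst, comp_lift_assoc, ← Category.assoc (η[H] ▷ _),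
      ← Category.assoc (η[H] ▷ _) (snd H _), hu, MonObj.one_comp, AlgGrp.Action.lift_one_act, whiskerRight_snd,
      leftUnitor_hom]
  mul_act := by
    have := mono_e hY
    refine AlgGrp.Action.hom_ext_lift₃ fun W g g' x => ?_
    rw [← cancel_mono (ι₀ A)]
    simp only [lift_whiskerRight_assoc, lift_lift_associator_hom_assoc, lift_whiskerLeft_assoc, Category.assoc,
      pullback.lift_fst, comp_lift_assoc, lift_fst_assoc, lift_snd_assoc]
    rw [← Category.assoc (lift g g'), ← Hom.mul_def, MonObj.mul_comp, AlgGrp.Action.lift_mul_act]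

theorem slAct_ι {W : Over S} (h : W ⟶ H) (p : W ⟶ sl (Z := Z) (j := j) A) :
    (lift h p ≫ (slAct hY A).act) ≫ ι₀ A = lift (h ≫ i) (p ≫ ι₀ A) ≫ A.act.act := by
  rw [Category.assoc, slAct, pullback.lift_fst, comp_lift_assoc, lift_fst_assoc, lift_snd_assoc]

theorem slAct_φ {W : Over S} (h : W ⟶ H) (p : W ⟶ sl (Z := Z) (j := j) A) :
    (lift h p ≫ (slAct hY A).act) ≫ pullback.snd A.φ (e Z j) = lift h (p ≫ pullback.snd A.φ (e Z j)) ≫ aZ.act := by
  rw [Category.assoc, slAct, pullback.lift_snd, comp_lift_assoc, lift_fst, lift_snd_assoc]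

theorem slice_cart : IsPullback (slAct hY A).act (snd H (sl (Z := Z) (j := j) A)) (ι₀ A ≫ A.π) (ι₀ A ≫ A.π) := by
  have := mono_e hY
  refine isPullback_of_points ?_ fun W p p' h => ?_
  · refine AlgGrp.Action.hom_ext_lift₂ fun W h p => ?_
    rw [← Category.assoc, ← Category.assoc, slAct_ι, act_proj A.cart, lift_snd_assoc, Category.assoc]
  · have h' : (p ≫ ι₀ A) ≫ A.π = (p' ≫ ι₀ A) ≫ A.π := by simpa using h
    have hg := div_spec A.cart _ _ h'
    have e1 := congrArg (· ≫ A.φ) hg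
    rw [eqv_pt, Category.assoc p, Category.assoc p', pullback.condition, ← Category.assoc p',
      ← Category.assoc p (pullback.snd _ _), ← j_eq hY] at e1
    obtain ⟨k, hk, -⟩ := exists_of_e_eq hY e1.symm
    refine ⟨lift k p', ⟨?_, lift_snd _ _⟩, ?_⟩
    · rw [← cancel_mono (ι₀ A), slAct_ι, hk, hg]
    · rintro q ⟨hq1, hq2⟩
      obtain ⟨k', rfl⟩ : ∃ k' : W ⟶ H, q = lift k' p' :=
        ⟨q ≫ fst H _, by rw [← hq2]; exact lift_fst_snd_self q⟩
      have e2 := congrArg (· ≫ ι₀ A) hq1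
      simp only [slAct_ι] at e2
      have : k' ≫ i = k ≫ i := by rw [hk]; exact (div_eq A.cart h' e2).symm
      rw [(cancel_mono i).1 this]

/-- The map `(g, p) ↦ g · p`. -/
noncomputable def θ : G ⊗ sl (Z := Z) (j := j) A ⟶ A.P := (G ◁ ι₀ A) ≫ A.act.act

omit [Mono i] in
theorem lift_θ {W : Over S} (g : W ⟶ G) (p : W ⟶ sl (Z := Z) (j := j) A) :
    lift g p ≫ θ A = lift g (p ≫ ι₀ A) ≫ A.act.act := by
  rw [θ, lift_whiskerLeft_assoc]

omit [Mono i] in
include hY in
theorem hasLocSec_θ : HasLocSec (θ (Z := Z) (j := j) A) := by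
  have sq := IsPullback.of_hasPullback j A.φ
  let g := pullback.fst j A.φ ≫ fst G Z
  let z := pullback.fst j A.φ ≫ snd G Z
  let q := pullback.snd j A.φ
  have hq : q ≫ A.φ = lift g (z ≫ e Z j) ≫ aY.act := by
    rw [← j_eq hY, show lift g z = pullback.fst j A.φ from (lift_fst_snd_self _).symm]
    exact pullback.condition.symm
  have hc : (lift g⁻¹ q ≫ A.act.act) ≫ A.φ = z ≫ e Z j := by
    rw [eqv_pt, hq, ← AlgGrp.Action.lift_mul_act, inv_mul_cancel, AlgGrp.Action.lift_one_act]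
  refine ((hasLocSec_of_isLocallyTrivialFor j hY.2.2).of_isPullback sq).of_factor
    (lift g (pullback.lift _ _ hc)) ?_
  rw [lift_θ, pullback.lift_fst, ← AlgGrp.Action.lift_mul_act, mul_inv_cancel, AlgGrp.Action.lift_one_act]

omit [Mono i] in
include hY in
theorem hasLocSec_slice : HasLocSec (ι₀ (Z := Z) (j := j) A ≫ A.π) := by
  refine ((hasLocSec_θ hY A).comp (hasLocSec_of_isLocallyTrivialFor A.π A.loc)).of_factor
    (snd G (sl A)) ?_
  refine AlgGrp.Action.hom_ext_lift₂ fun W g p => ?_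
  rw [lift_snd_assoc, ← Category.assoc (lift g p), lift_θ, act_proj A.cart, Category.assoc]

/-- The `H`-torsor attached to a `G`-torsor. -/
noncomputable def fobj : AlgSt.QuotObj Scheme.fppfPrecoverage H aZ where
  base := A.base
  P := sl (Z := Z) (j := j) A
  act := slAct hY A
  π := ι₀ A ≫ A.π
  cart := slice_cart hY A
  loc := (hasLocSec_slice hY A).isLocallyTrivialFor
  φ := pullback.snd A.φ (e Z j)
  eqv := AlgGrp.Action.hom_ext_lift₂ fun W h p => by
    rw [← Category.assoc, slAct_φ, lift_whiskerLeft_assoc]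

variable {A} {B : AlgSt.QuotObj Scheme.fppfPrecoverage G aY}

/-- The map of slices. -/
noncomputable def ftop (f : A ⟶ B) : sl (Z := Z) (j := j) A ⟶ sl (Z := Z) (j := j) B :=
  pullback.lift (ι₀ A ≫ f.top) (pullback.snd A.φ (e Z j)) (by rw [Category.assoc, f.wφ, pullback.condition])

omit [Mono i] in
theorem ftop_ι (f : A ⟶ B) : ftop f ≫ ι₀ B = ι₀ (Z := Z) (j := j) A ≫ f.top := pullback.lift_fst _ _ _

/-- The map of torsors attached to a map. -/
noncomputable def fmap (f : A ⟶ B) : fobj hY A ⟶ fobj hY B where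
  base := f.base
  top := ftop f
  eqv := by
    have := mono_e hY
    refine AlgGrp.Action.hom_ext_lift₂ fun W h p => ?_
    show lift h p ≫ (slAct hY A).act ≫ ftop f = lift h p ≫ (H ◁ ftop f) ≫ (slAct hY B).act
    rw [lift_whiskerLeft_assoc, ← cancel_mono (ι₀ B), slAct_ι]
    simp only [Category.assoc]
    rw [ftop_ι, ← Category.assoc (lift h p), ← Category.assoc, slAct_ι, Category.assoc, f.eqv,
      lift_whiskerLeft_assoc, Category.assoc]
  cart := by
    refine isPullback_of_torsors (slice_cart hY A) (slice_cart hY B) (hasLocSec_slice hY A) ?_ ?_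
    · show ftop f ≫ ι₀ B ≫ B.π = (ι₀ A ≫ A.π) ≫ f.base
      rw [← Category.assoc, ftop_ι, Category.assoc, f.cart.w, Category.assoc]
    · have := mono_e hY
      refine AlgGrp.Action.hom_ext_lift₂ fun W h p => ?_
      rw [lift_whiskerLeft_assoc, ← cancel_mono (ι₀ B), slAct_ι]
      simp only [Category.assoc]
      rw [ftop_ι, ← Category.assoc (lift h p), ← Category.assoc, slAct_ι, Category.assoc, f.eqv,
        lift_whiskerLeft_assoc, Category.assoc]
  wφ := pullback.lift_snd _ _ _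

/-- Restriction to the slice. -/
noncomputable def toH : AlgSt.QuotSt Scheme.fppfPrecoverage G aY ⥤ᵇ AlgSt.QuotSt Scheme.fppfPrecoverage H aZ where
  toFunctor :=
    { obj := fun A => fobj hY A
      map := fun f => fmap hY f
      map_id := fun A => by
        have := mono_e hY
        refine AlgSt.QuotObj.hom_ext rfl ?_
        show ftop (𝟙 A) = 𝟙 (sl A)
        rw [← cancel_mono (ι₀ A), ftop_ι]
        simp
      map_comp := fun {A B C} f g => by
        have := mono_e hY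
        refine AlgSt.QuotObj.hom_ext rfl ?_
        show ftop (f ≫ g) = ftop f ≫ ftop g
        rw [← cancel_mono (ι₀ C), ftop_ι, Category.assoc, ftop_ι, ← Category.assoc (ftop f), ftop_ι]
        simp }
  w := rfl

theorem θ_top (f : A ⟶ B) : θ (Z := Z) (j := j) A ≫ f.top = (G ◁ ftop f) ≫ θ B := by
  refine AlgGrp.Action.hom_ext_lift₂ fun W g p => ?_
  rw [← Category.assoc, lift_θ, lift_whiskerLeft_assoc, lift_θ, Category.assoc, f.eqv, lift_whiskerLeft_assoc,
    Category.assoc, Category.assoc, ftop_ι]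

theorem toH_faithful : (toH hY).toFunctor.Faithful := by
  refine ⟨fun {A B f g} h => AlgSt.QuotObj.hom_ext (show (fmap hY f).base = (fmap hY g).base from
    congrArg AlgSt.QuotObj.Hom.base (show fmap hY f = fmap hY g from h)) ((hasLocSec_θ hY A).hom_ext ?_)⟩
  have h' : (fmap hY f).top = (fmap hY g).top := congrArg AlgSt.QuotObj.Hom.top (show fmap hY f = fmap hY g from h)
  change ftop (Z := Z) (j := j) f = ftop g at h'
  rw [θ_top, θ_top, h']

set_option maxHeartbeats 1600000 in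
theorem toH_full : (toH hY).toFunctor.Full := by
  refine ⟨fun {A B} f => ?_⟩
  have := mono_e hY
  let t : sl (Z := Z) (j := j) A ⟶ sl (Z := Z) (j := j) B := f.top
  let bs : A.base ⟶ B.base := f.base
  have hteq : ∀ (W : Over S) (h : W ⟶ H) (p : W ⟶ sl (Z := Z) (j := j) A),
      (lift h p ≫ (slAct hY A).act) ≫ t = lift h (p ≫ t) ≫ (slAct hY B).act := by
    intro W h p
    rw [← lift_whiskerLeft_assoc, Category.assoc]
    exact congrArg (lift h p ≫ ·) f.eqv
  obtain ⟨T, hT, -⟩ := (hasLocSec_θ hY A).existsUnique_desc ((G ◁ t) ≫ θ B) fun W a b hab => by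
    obtain ⟨g, p, rfl⟩ : ∃ (g : W ⟶ G) (p : W ⟶ sl (Z := Z) (j := j) A), a = lift g p := ⟨_, _, lift_fst_snd_self a⟩
    obtain ⟨g', p', rfl⟩ : ∃ (g' : W ⟶ G) (p' : W ⟶ sl (Z := Z) (j := j) A), b = lift g' p' := ⟨_, _, lift_fst_snd_self b⟩
    rw [lift_θ, lift_θ] at hab
    have hπ : p ≫ ι₀ A ≫ A.π = p' ≫ ι₀ A ≫ A.π := by
      have e1 := congrArg (· ≫ A.π) hab
      simpa only [act_proj A.cart, Category.assoc] using e1
    have hd := div_spec (slice_cart hY A) p p' hπ
    generalize div (slice_cart hY A) p p' hπ = k at hd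
    subst hd
    rw [slAct_ι, ← AlgGrp.Action.lift_mul_act] at hab
    rw [lift_whiskerLeft_assoc, lift_whiskerLeft_assoc, lift_θ, lift_θ, hteq, slAct_ι,
      ← AlgGrp.Action.lift_mul_act, act_left_inj A.cart hab]
  have hT' : ∀ (W : Over S) (g : W ⟶ G) (p : W ⟶ sl (Z := Z) (j := j) A),
      (lift g (p ≫ ι₀ A) ≫ A.act.act) ≫ T = lift g (p ≫ t ≫ ι₀ B) ≫ B.act.act := by
    intro W g p
    rw [← lift_θ, Category.assoc, hT, lift_whiskerLeft_assoc, lift_θ, Category.assoc]
  have heq : A.act.act ≫ T = (G ◁ T) ≫ B.act.act := by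
    refine ((hasLocSec_θ hY A).whiskerLeft G).hom_ext (AlgGrp.Action.hom_ext_lift₂ fun W k u => ?_)
    obtain ⟨g, p, rfl⟩ : ∃ (g : W ⟶ G) (p : W ⟶ sl (Z := Z) (j := j) A), u = lift g p := ⟨_, _, lift_fst_snd_self u⟩
    rw [lift_whiskerLeft_assoc, lift_whiskerLeft_assoc, lift_whiskerLeft_assoc, lift_θ, hT', ← Category.assoc,
      ← AlgGrp.Action.lift_mul_act, hT', AlgGrp.Action.lift_mul_act]
  have hpπ : t ≫ ι₀ B ≫ B.π = ι₀ A ≫ A.π ≫ bs := f.cart.w.trans (Category.assoc _ _ _)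
  have hpφ : t ≫ ι₀ B ≫ B.φ = ι₀ A ≫ A.φ := by
    rw [pullback.condition, pullback.condition, ← Category.assoc]
    have e1 : t ≫ pullback.snd B.φ (e Z j) = pullback.snd A.φ (e Z j) := f.wφ
    rw [e1]
  have hw : T ≫ B.π = A.π ≫ bs := by
    refine (hasLocSec_θ hY A).hom_ext (AlgGrp.Action.hom_ext_lift₂ fun W g p => ?_)
    rw [reassoc_of% hT, lift_whiskerLeft_assoc, ← Category.assoc _ (θ B), lift_θ, act_proj B.cart,
      ← Category.assoc _ (θ A), lift_θ, ← Category.assoc, act_proj A.cart]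
    simp only [Category.assoc, hpπ]
  have hφ : T ≫ B.φ = A.φ := by
    refine (hasLocSec_θ hY A).hom_ext (AlgGrp.Action.hom_ext_lift₂ fun W g p => ?_)
    rw [reassoc_of% hT, lift_whiskerLeft_assoc, ← Category.assoc _ (θ B), lift_θ, eqv_pt,
      ← Category.assoc _ (θ A), lift_θ, eqv_pt]
    simp only [Category.assoc, hpφ]
  refine ⟨{ base := bs, top := T, eqv := heq,
            cart := isPullback_of_torsors A.cart B.cart (hasLocSec_of_isLocallyTrivialFor A.π A.loc) hw heq,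
            wφ := hφ }, AlgSt.QuotObj.hom_ext rfl ?_⟩
  show pullback.lift (ι₀ A ≫ T) (pullback.snd A.φ (e Z j)) _ = t
  rw [← cancel_mono (ι₀ B), pullback.lift_fst]
  have e1 := hT' _ 1 (𝟙 (sl (Z := Z) (j := j) A))
  rwa [AlgGrp.Action.lift_one_act, AlgGrp.Action.lift_one_act, Category.id_comp, Category.id_comp] at e1

theorem toH_esssurj [IsAffineHom G.hom] [IsAffineHom H.hom] [Flat H.hom]
    (B : AlgSt.QuotObj Scheme.fppfPrecoverage H aZ) :
    ∃ (A : AlgSt.QuotObj Scheme.fppfPrecoverage G aY) (ε : fobj hY A ≅ B),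
      (AlgSt.QuotSt Scheme.fppfPrecoverage H aZ).p.IsHomLift (𝟙 B.base) ε.hom := by
  have := mono_e hY
  have hπ := hasLocSec_of_isLocallyTrivialFor B.π B.loc
  have hloc : NonAbH1.IsLocallyTrivialFor Scheme.fpqcPrecoverage (Over.mk B.π.left : Over B.base.left) := by
    obtain ⟨R, hR, hs⟩ := B.loc
    exact ⟨R, Scheme.fppfPrecoverage_le_fpqcPrecoverage _ hR, hs⟩
  haveI : Surjective H.hom := ⟨fun x => ⟨(η[H]).left x, by
    show ((η[H]).left ≫ H.hom) x = x
    rw [Over.w η[H]]; rfl⟩⟩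
  haveI : Flat B.π.left := torsor_property B.cart @Flat hloc inferInstance
  haveI : Surjective B.π.left := torsor_property B.cart @Surjective hloc inferInstance
  haveI : IsAffineHom B.π.left :=
    haveI := EtFound.fpqc_isAffineHom.{u}
    torsor_property B.cart @IsAffineHom hloc inferInstance
  obtain ⟨Q, q, r, hw, sq, hcq⟩ := exists_assoc B.cart ((AlgGrp.Action.invRight G).restrict i)
  have hinv : ∀ (W : Over S) (h : W ⟶ H) (p : W ⟶ B.P) (g : W ⟶ G),
      lift (lift h p ≫ B.act.act) (g * (h ≫ i)⁻¹) ≫ q = lift p g ≫ q := by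
    intro W h p g
    have e1 := congrArg (lift h (lift p g) ≫ ·) hcq.w
    simpa only [AlgGrp.Action.lift_prod_act_assoc, AlgGrp.Action.lift_restrict_act, AlgGrp.Action.lift_invRight_act,
      lift_snd_assoc] using e1
  have hfib : ∀ (W : Over S) (p p' : W ⟶ B.P) (g g' : W ⟶ G), lift p g ≫ q = lift p' g' ≫ q →
      ∃ h : W ⟶ H, p = lift h p' ≫ B.act.act ∧ g = g' * (h ≫ i)⁻¹ := by
    intro W p p' g g' h
    let c := hcq.lift (lift p g) (lift p' g') h
    have hc : c = lift (c ≫ fst H (B.P ⊗ G)) (lift p' g') := by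
      conv_lhs => rw [lift_fst_snd_self c, show c ≫ snd H (B.P ⊗ G) = lift p' g' from hcq.lift_snd _ _ h]
    have h1 := hcq.lift_fst _ _ h
    rw [show hcq.lift (lift p g) (lift p' g') h = c from rfl, hc, AlgGrp.Action.lift_prod_act,
      AlgGrp.Action.lift_restrict_act, AlgGrp.Action.lift_invRight_act] at h1
    exact ⟨_, by simpa using (congrArg (· ≫ fst B.P G) h1).symm, by simpa using (congrArg (· ≫ snd B.P G) h1).symm⟩
  have hqs : HasLocSec q := hπ.of_isPullback sq.flip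
  -- the action of `G` on the bundle
  obtain ⟨act, hact, -⟩ := (hqs.whiskerLeft G).existsUnique_desc
    (lift (snd G (B.P ⊗ G) ≫ fst B.P G) (fst G (B.P ⊗ G) * (snd G (B.P ⊗ G) ≫ snd B.P G)) ≫ q) fun W a b hab => by
      obtain ⟨k, u, rfl⟩ : ∃ (k : W ⟶ G) (u : W ⟶ B.P ⊗ G), a = lift k u := ⟨_, _, lift_fst_snd_self a⟩
      obtain ⟨k', u', rfl⟩ : ∃ (k' : W ⟶ G) (u' : W ⟶ B.P ⊗ G), b = lift k' u' := ⟨_, _, lift_fst_snd_self b⟩
      obtain ⟨p, g, rfl⟩ : ∃ (p : W ⟶ B.P) (g : W ⟶ G), u = lift p g := ⟨_, _, lift_fst_snd_self u⟩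
      obtain ⟨p', g', rfl⟩ : ∃ (p' : W ⟶ B.P) (g' : W ⟶ G), u' = lift p' g' := ⟨_, _, lift_fst_snd_self u'⟩
      rw [lift_whiskerLeft, lift_whiskerLeft] at hab
      have hk : k = k' := by simpa using congrArg (· ≫ fst G Q) hab
      obtain ⟨h, rfl, rfl⟩ := hfib W p p' g g' (by simpa using congrArg (· ≫ snd G Q) hab)
      subst hk
      simp only [comp_lift_assoc, comp_mul, lift_fst, lift_snd, lift_fst_assoc, lift_snd_assoc]
      rw [← _root_.mul_assoc, hinv]
  have hact' : ∀ (W : Over S) (k : W ⟶ G) (p : W ⟶ B.P) (g : W ⟶ G),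
      lift k (lift p g ≫ q) ≫ act = lift p (k * g) ≫ q := by
    intro W k p g
    rw [← lift_whiskerLeft_assoc, hact]
    simp only [comp_lift_assoc, comp_mul, lift_fst, lift_snd, lift_fst_assoc, lift_snd_assoc]
  let aQ : AlgGrp.Action G Q :=
    { act := act
      one_act := by
        refine (hqs.whiskerLeft (𝟙_ (Over S))).hom_ext (AlgGrp.Action.hom_ext_lift₂ fun W v u => ?_)
        obtain ⟨p, g, rfl⟩ : ∃ (p : W ⟶ B.P) (g : W ⟶ G), u = lift p g := ⟨_, _, lift_fst_snd_self u⟩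
        rw [lift_whiskerLeft_assoc, lift_whiskerRight_assoc, hact', lift_whiskerLeft_assoc, leftUnitor_hom, lift_snd,
          show v ≫ η[G] = 1 by rw [Hom.one_def]; congr 1; exact toUnit_unique _ _, _root_.one_mul]
      mul_act := by
        refine (hqs.whiskerLeft (G ⊗ G)).hom_ext (AlgGrp.Action.hom_ext_lift₂ fun W v u => ?_)
        obtain ⟨p, g, rfl⟩ : ∃ (p : W ⟶ B.P) (g : W ⟶ G), u = lift p g := ⟨_, _, lift_fst_snd_self u⟩
        obtain ⟨k, k', rfl⟩ : ∃ (k k' : W ⟶ G), v = lift k k' := ⟨_, _, lift_fst_snd_self v⟩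
        rw [lift_whiskerLeft_assoc, lift_whiskerRight_assoc, lift_whiskerLeft_assoc, lift_lift_associator_hom_assoc,
          lift_whiskerLeft_assoc, ← Hom.mul_def, hact', hact', hact', _root_.mul_assoc] }
  -- the torsor structure
  have hrw : ∀ (W : Over S) (p : W ⟶ B.P) (g : W ⟶ G), (lift p g ≫ q) ≫ r = p ≫ B.π := by
    intro W p g
    rw [Category.assoc, hw, lift_fst_assoc]
  have hwr : aQ.act ≫ r = snd G Q ≫ r := by
    refine (hqs.whiskerLeft G).hom_ext (AlgGrp.Action.hom_ext_lift₂ fun W k u => ?_)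
    obtain ⟨p, g, rfl⟩ : ∃ (p : W ⟶ B.P) (g : W ⟶ G), u = lift p g := ⟨_, _, lift_fst_snd_self u⟩
    rw [lift_whiskerLeft_assoc, lift_whiskerLeft_assoc, ← Category.assoc]
    show (lift k (lift p g ≫ q) ≫ act) ≫ r = _
    rw [hact', hrw, lift_snd_assoc, hrw]
  have hfree : ∀ (W : Over S) (k k' : W ⟶ G) (y : W ⟶ Q), lift k y ≫ act = lift k' y ≫ act → k = k' := by
    intro W k k' y h
    refine (hqs.of_isPullback (IsPullback.of_hasPullback q y)).hom_ext ?_
    let u := pullback.fst q y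
    let d := pullback.snd q y
    have hd : d ≫ y = lift (u ≫ fst B.P G) (u ≫ snd B.P G) ≫ q := by
      rw [← lift_fst_snd_self u]; exact pullback.condition.symm
    have e1 := congrArg (d ≫ ·) h
    simp only [comp_lift_assoc, hd, hact'] at e1
    obtain ⟨m, hm1, hm2⟩ := hfib _ _ _ _ _ e1
    have hm : m = 1 := (act_left_inj B.cart (hm1.symm.trans (B.act.lift_one_act _).symm))
    rw [hm, MonObj.one_comp, inv_one, _root_.mul_one] at hm2
    exact mul_right_cancel hm2
  have hcartQ : IsPullback aQ.act (snd G Q) r r := by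
    let d₁ : pullback q (pullback.fst r r) ⟶ _ := pullback.snd _ _
    let d₂ : pullback q (d₁ ≫ pullback.snd r r) ⟶ _ := pullback.snd _ _
    have hv : HasLocSec (d₂ ≫ d₁) :=
      (hqs.of_isPullback (IsPullback.of_hasPullback q (d₁ ≫ pullback.snd r r))).comp
        (hqs.of_isPullback (IsPullback.of_hasPullback q (pullback.fst r r)))
    let u₁ : pullback q (d₁ ≫ pullback.snd r r) ⟶ B.P ⊗ G := d₂ ≫ pullback.fst _ _
    let u₂ : pullback q (d₁ ≫ pullback.snd r r) ⟶ B.P ⊗ G := pullback.fst _ _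
    have hu₁ : (d₂ ≫ d₁) ≫ pullback.fst r r = lift (u₁ ≫ fst B.P G) (u₁ ≫ snd B.P G) ≫ q := by
      rw [← lift_fst_snd_self u₁, Category.assoc, Category.assoc]
      exact congrArg (d₂ ≫ ·) pullback.condition.symm
    have hu₂ : (d₂ ≫ d₁) ≫ pullback.snd r r = lift (u₂ ≫ fst B.P G) (u₂ ≫ snd B.P G) ≫ q := by
      rw [← lift_fst_snd_self u₂, Category.assoc]
      exact pullback.condition.symm
    have hpp : (u₁ ≫ fst B.P G) ≫ B.π = (u₂ ≫ fst B.P G) ≫ B.π := by
      rw [← hrw _ _ (u₁ ≫ snd B.P G), ← hu₁, ← hrw _ _ (u₂ ≫ snd B.P G), ← hu₂]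
      simp only [Category.assoc, pullback.condition]
    let m := div B.cart _ _ hpp
    refine isPullback_of_locally hwr (fun W x x' h₁ h₂ => ?_) hv
      (lift ((u₁ ≫ snd B.P G) * (m ≫ i) * (u₂ ≫ snd B.P G)⁻¹) ((d₂ ≫ d₁) ≫ pullback.snd r r)) ?_ (lift_snd _ _)
    · obtain ⟨k, y, rfl⟩ : ∃ (k : W ⟶ G) (y : W ⟶ Q), x = lift k y := ⟨_, _, lift_fst_snd_self x⟩
      obtain ⟨k', y', rfl⟩ : ∃ (k' : W ⟶ G) (y' : W ⟶ Q), x' = lift k' y' := ⟨_, _, lift_fst_snd_self x'⟩
      simp only [lift_snd] at h₂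
      subst h₂
      rw [hfree W k k' y h₁]
    · show lift _ _ ≫ act = _
      rw [hu₂, hact', inv_mul_cancel_right, hu₁, ← hinv _ m (u₂ ≫ fst B.P G), mul_inv_cancel_right, div_spec]
  have hr : HasLocSec r := hπ.of_factor (lift (𝟙 B.P) (1 : B.P ⟶ G) ≫ q) (by
    rw [hrw, Category.id_comp])
  obtain ⟨φQ, hφQ, -⟩ := hqs.existsUnique_desc (lift (snd B.P G) (fst B.P G ≫ B.φ) ≫ j) fun W a b hab => by
    obtain ⟨p, g, rfl⟩ : ∃ (p : W ⟶ B.P) (g : W ⟶ G), a = lift p g := ⟨_, _, lift_fst_snd_self a⟩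
    obtain ⟨p', g', rfl⟩ : ∃ (p' : W ⟶ B.P) (g' : W ⟶ G), b = lift p' g' := ⟨_, _, lift_fst_snd_self b⟩
    obtain ⟨h, rfl, rfl⟩ := hfib W p p' g g' hab
    simp only [comp_lift_assoc, lift_snd, lift_fst_assoc, Category.assoc]
    rw [B.eqv, lift_whiskerLeft_assoc, balProd_twist hY]
  have hφ' : ∀ (W : Over S) (p : W ⟶ B.P) (g : W ⟶ G),
      (lift p g ≫ q) ≫ φQ = lift g (p ≫ B.φ) ≫ j := by
    intro W p g
    rw [Category.assoc, hφQ, comp_lift_assoc, lift_snd, lift_fst_assoc]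
  let A : AlgSt.QuotObj Scheme.fppfPrecoverage G aY :=
    { base := B.base, P := Q, act := aQ, π := r, cart := hcartQ, loc := hr.isLocallyTrivialFor, φ := φQ
      eqv := by
        refine (hqs.whiskerLeft G).hom_ext (AlgGrp.Action.hom_ext_lift₂ fun W k u => ?_)
        obtain ⟨p, g, rfl⟩ : ∃ (p : W ⟶ B.P) (g : W ⟶ G), u = lift p g := ⟨_, _, lift_fst_snd_self u⟩
        rw [lift_whiskerLeft_assoc, lift_whiskerLeft_assoc, lift_whiskerLeft_assoc, hφ', ← Category.assoc]
        show (lift k (lift p g ≫ q) ≫ act) ≫ φQ = _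
        rw [hact', hφ', balProd_act hY] }
  have hψ : (lift (𝟙 B.P) (1 : B.P ⟶ G) ≫ q) ≫ A.φ = B.φ ≫ e Z j := by
    show _ ≫ φQ = _
    rw [hφ', Category.id_comp, comp_e]
  let ψ : B.P ⟶ sl (Z := Z) (j := j) A := pullback.lift _ _ hψ
  have hψι : ∀ (W : Over S) (p : W ⟶ B.P), (p ≫ ψ) ≫ ι₀ A = lift p (1 : W ⟶ G) ≫ q := by
    intro W p
    rw [Category.assoc, pullback.lift_fst, comp_lift_assoc, Category.comp_id, MonObj.comp_one]
  have hψeq : B.act.act ≫ ψ = (H ◁ ψ) ≫ (slAct hY A).act := by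
    refine AlgGrp.Action.hom_ext_lift₂ fun W h p => ?_
    rw [lift_whiskerLeft_assoc, ← Category.assoc, ← cancel_mono (ι₀ A), hψι, slAct_ι, hψι]
    show _ = lift (h ≫ i) (lift p 1 ≫ q) ≫ act
    rw [hact', _root_.mul_one, ← hinv W h p (h ≫ i), mul_inv_cancel]
  have hψπ : ψ ≫ ι₀ A ≫ r = B.π ≫ 𝟙 _ := by
    rw [Category.comp_id, ← Category.assoc, ← Category.id_comp (ψ ≫ ι₀ A), ← Category.assoc (𝟙 _), hψι, hrw,
      Category.id_comp]
  have hψc : IsPullback ψ B.π (ι₀ A ≫ r) (𝟙 _) :=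
    isPullback_of_torsors B.cart (slice_cart hY A) hπ hψπ hψeq
  haveI : IsIso ψ := by
    haveI : IsIso (𝟙 B.base) := IsIso.id _
    exact hψc.isIso_fst_of_isIso
  have hc : IsPullback (inv ψ) (ι₀ A ≫ r) B.π (𝟙 B.base) := IsPullback.of_horiz_isIso ⟨by
    show inv ψ ≫ B.π = (ι₀ A ≫ r) ≫ 𝟙 _
    rw [Category.comp_id, IsIso.inv_comp_eq, hψπ, Category.comp_id]⟩
  let hom : fobj hY A ⟶ B :=
    { base := 𝟙 B.base
      top := inv ψ
      eqv := by
        show (slAct hY A).act ≫ inv ψ = (H ◁ inv ψ) ≫ B.act.act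
        rw [IsIso.comp_inv_eq, Category.assoc, hψeq, ← MonoidalCategory.whiskerLeft_comp_assoc,
          IsIso.inv_hom_id, MonoidalCategory.whiskerLeft_id, Category.id_comp]
      cart := hc
      wφ := by
        show inv ψ ≫ B.φ = pullback.snd A.φ (e Z j)
        rw [IsIso.inv_comp_eq]
        exact (pullback.lift_snd _ _ _).symm }
  let inv' : B ⟶ fobj hY A :=
    { base := 𝟙 B.base
      top := ψ
      eqv := hψeq
      cart := hψc
      wφ := pullback.lift_snd _ _ _ }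
  refine ⟨A, ⟨hom, inv', AlgSt.QuotObj.hom_ext (Category.id_comp _) (IsIso.inv_hom_id ψ),
    AlgSt.QuotObj.hom_ext (Category.id_comp _) (IsIso.hom_inv_id ψ)⟩, ?_⟩
  show (AlgSt.QuotObj.forget Scheme.fppfPrecoverage H aZ).IsHomLift
    ((AlgSt.QuotObj.forget Scheme.fppfPrecoverage H aZ).map hom) hom
  infer_instance

include hY in
/-- The quotient of the balanced product by the group is the quotient by the subgroup. -/
theorem isQuotientOf [IsAffineHom G.hom] [IsAffineHom H.hom] [Flat H.hom] :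
    AlgSt.IsQuotientOf Scheme.fppfPrecoverage H aZ (AlgSt.QuotSt Scheme.fppfPrecoverage G aY) := by
  obtain ⟨F, h₁, h₂⟩ := Groth.Agent.FibBase.isEquivOver_of_exists_iso (toH hY) (toH_full hY) (toH_faithful hY)
    (toH_esssurj hY)
  exact ⟨F, toH hY, h₂, h₁⟩

end Groth.Agent.BalLib.QStk
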